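import Cfsg.Agent.Lib.Involutions
import Cfsg.Agent.S0215
import Mathlib.GroupTheory.GroupAction.MultipleTransitivity

/-!
A doubly transitive group whose point stabiliser has a normal Sylow 2-subgroup, on an odd number of points:
the subgroups at the points and their central involutions.

Blueprint: `blueprint/bender/S0349.md`.
-/

set_option autoImplicit false
set_option linter.unusedSectionVars false
set_option linter.style.haveILetI false

namespace CfsgLib.BNRankOne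

open MulAction

universe u v

variable {G : Type u} {Ω : Type v} [Group G] [MulAction G Ω]

/-- An element of 2-power order. -/
def IsTwo (x : G) : Prop := ∃ k : ℕ, x ^ 2 ^ k = 1

theorem IsTwo.conj {x : G} (h : IsTwo x) (g : G) : IsTwo (g * x * g⁻¹) := by
  obtain ⟨k, hk⟩ := h
  exact ⟨k, by rw [conj_pow, hk, mul_one, mul_inv_cancel]⟩

theorem isTwo_of_mul_self {x : G} (h : x * x = 1) : IsTwo x := ⟨1, by rw [pow_one, pow_two, h]⟩

/-- The set-up: a point stabiliser with a normal Sylow 2-subgroup `P` of the whole group, which is transitive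
on the other points up to elements centralising it. -/
structure Hyp (G : Type u) (Ω : Type v) [Group G] [MulAction G Ω] (e : Ω) (P : Subgroup G) : Prop where
  two_trans : IsMultiplyPretransitive G Ω 2
  nontriv : ∃ b : Ω, b ≠ e
  le : P ≤ stabilizer G e
  conj : ∀ h : G, h • e = e → ∀ x ∈ P, h * x * h⁻¹ ∈ P
  two_group : IsPGroup 2 P
  two_mem : ∀ x : G, x • e = e → IsTwo x → x ∈ P
  odd_points : Odd (Nat.card Ω)
  split : ∀ b c : Ω, b ≠ e → c ≠ e →
    ∃ x ∈ P, ∃ o : G, o • e = e ∧ (∀ y ∈ P, o * y = y * o) ∧ x • o • b = c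

variable {e : Ω} {P : Subgroup G}

theorem finite_points (hH : Hyp G Ω e P) : Finite Ω :=
  Nat.finite_of_card_ne_zero fun h => by
    have h1 := hH.odd_points
    rw [h] at h1
    exact absurd h1 (by decide)

theorem two_pt (hH : Hyp G Ω e P) {p q p' q' : Ω} (h : p ≠ q) (h' : p' ≠ q') :
    ∃ g : G, g • p = p' ∧ g • q = q' :=
  is_two_pretransitive_iff.mp hH.two_trans h h'

theorem exists_to (hH : Hyp G Ω e P) (c : Ω) : ∃ g : G, g • e = c := by
  by_cases hc : c = e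
  · exact ⟨1, by rw [one_smul, hc]⟩
  · obtain ⟨g, hg, -⟩ := two_pt hH (Ne.symm hc) hc
    exact ⟨g, hg⟩

theorem exists_other (hH : Hyp G Ω e P) (c : Ω) : ∃ d : Ω, d ≠ c := by
  obtain ⟨b, hb⟩ := hH.nontriv
  by_cases hc : e = c
  · exact ⟨b, fun e' => hb (e'.trans hc.symm)⟩
  · exact ⟨e, hc⟩

/-- The 2-elements fixing a point. -/
noncomputable def pt (hH : Hyp G Ω e P) (c : Ω) : Subgroup G :=
  P.map (MulAut.conj (exists_to hH c).choose).toMonoidHom

theorem mem_pt (hH : Hyp G Ω e P) {c : Ω} {x : G} : x ∈ pt hH c ↔ x • c = c ∧ IsTwo x := by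
  have hg : (exists_to hH c).choose • e = c := (exists_to hH c).choose_spec
  constructor
  · rintro ⟨y, hy, rfl⟩
    refine ⟨?_, ?_⟩
    · show ((exists_to hH c).choose * y * (exists_to hH c).choose⁻¹) • c = c
      rw [mul_smul, mul_smul, inv_smul_eq_iff.mpr hg.symm, mem_stabilizer_iff.mp (hH.le hy), hg]
    · obtain ⟨k, hk⟩ := hH.two_group ⟨y, hy⟩
      exact IsTwo.conj (x := y) ⟨k, by simpa using congrArg Subtype.val hk⟩ _
  · rintro ⟨hx, hx2⟩
    refine ⟨(exists_to hH c).choose⁻¹ * x * (exists_to hH c).choose, hH.two_mem _ ?_ ?_, ?_⟩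
    · rw [mul_smul, mul_smul, hg, hx, inv_smul_eq_iff.mpr hg.symm]
    · simpa using hx2.conj (exists_to hH c).choose⁻¹
    · show (exists_to hH c).choose * _ * (exists_to hH c).choose⁻¹ = x
      group

theorem pt_self (hH : Hyp G Ω e P) : pt hH e = P := by
  ext x
  rw [mem_pt hH]
  refine ⟨fun h => hH.two_mem x h.1 h.2, fun h => ⟨mem_stabilizer_iff.mp (hH.le h), ?_⟩⟩
  obtain ⟨k, hk⟩ := hH.two_group ⟨x, h⟩
  exact ⟨k, by simpa using congrArg Subtype.val hk⟩

theorem pt_smul (hH : Hyp G Ω e P) {c : Ω} {x : G} (h : x ∈ pt hH c) : x • c = c := ((mem_pt hH).mp h).1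

theorem pt_two_group (hH : Hyp G Ω e P) (c : Ω) : IsPGroup 2 (pt hH c) := hH.two_group.map _

theorem conj_pt (hH : Hyp G Ω e P) {c : Ω} {x : G} (h : x ∈ pt hH c) (g : G) :
    g * x * g⁻¹ ∈ pt hH (g • c) := by
  rw [mem_pt hH] at h ⊢
  exact ⟨by rw [mul_smul, mul_smul, inv_smul_smul, h.1], h.2.conj g⟩

/-- The involutions, with one, of the centre of the 2-subgroup at a point. -/
noncomputable def zc (hH : Hyp G Ω e P) (c : Ω) : Subgroup G where
  carrier := {x | x ∈ pt hH c ∧ x * x = 1 ∧ ∀ y ∈ pt hH c, x * y = y * x}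
  one_mem' := ⟨one_mem _, mul_one 1, fun y _ => by rw [one_mul, mul_one]⟩
  mul_mem' := fun {x x'} hx hx' => ⟨mul_mem hx.1 hx'.1,
    by rw [show x * x' * (x * x') = x * (x' * x) * x' by group, ← hx.2.2 x' hx'.1,
      show x * (x * x') * x' = x * x * (x' * x') by group, hx.2.1, hx'.2.1, one_mul],
    fun y hy => by rw [mul_assoc, hx'.2.2 y hy, ← mul_assoc, hx.2.2 y hy, mul_assoc]⟩
  inv_mem' := fun {x} hx => by
    rw [show x⁻¹ = x from inv_eq_of_mul_eq_one_right hx.2.1]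
    exact hx

theorem mem_zc (hH : Hyp G Ω e P) {c : Ω} {x : G} :
    x ∈ zc hH c ↔ x ∈ pt hH c ∧ x * x = 1 ∧ ∀ y ∈ pt hH c, x * y = y * x := Iff.rfl

theorem zc_le (hH : Hyp G Ω e P) (c : Ω) : zc hH c ≤ pt hH c := fun _ h => h.1

theorem zc_smul (hH : Hyp G Ω e P) {c : Ω} {x : G} (h : x ∈ zc hH c) : x • c = c := pt_smul hH h.1

theorem conj_zc (hH : Hyp G Ω e P) {c : Ω} {x : G} (h : x ∈ zc hH c) (g : G) :
    g * x * g⁻¹ ∈ zc hH (g • c) := by
  refine ⟨conj_pt hH h.1 g, by rw [conj_mul, h.2.1, mul_one, mul_inv_cancel], fun y hy => ?_⟩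
  have hy' : g⁻¹ * y * g ∈ pt hH c := by simpa using conj_pt hH hy g⁻¹
  calc g * x * g⁻¹ * y = g * (x * (g⁻¹ * y * g)) * g⁻¹ := by group
    _ = g * (g⁻¹ * y * g * x) * g⁻¹ := by rw [h.2.2 _ hy']
    _ = y * (g * x * g⁻¹) := by group

/-- A central involution commutes with the elements fixing its point. -/
theorem zc_comm (hH : Hyp G Ω e P) {c : Ω} {x y : G} (hx : x ∈ zc hH c) (hy : y • c = c) (hy2 : IsTwo y) :
    x * y = y * x :=
  hx.2.2 y ((mem_pt hH).mpr ⟨hy, hy2⟩)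

/-- The line through two points. -/
def line (hH : Hyp G Ω e P) (g h : Ω) : Set Ω := {c | ∀ x ∈ pt hH g ⊓ pt hH h, x • c = c}

theorem mem_line_left (hH : Hyp G Ω e P) (g h : Ω) : g ∈ line hH g h :=
  fun _ hx => pt_smul hH (Subgroup.mem_inf.mp hx).1

theorem mem_line_right (hH : Hyp G Ω e P) (g h : Ω) : h ∈ line hH g h :=
  fun _ hx => pt_smul hH (Subgroup.mem_inf.mp hx).2

/-- An element commuting with the 2-elements fixing two points permutes their line. -/
theorem smul_line (hH : Hyp G Ω e P) {g h : Ω} {y : G} (hy : ∀ x ∈ pt hH g ⊓ pt hH h, x * y = y * x) {c : Ω}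
    (hc : c ∈ line hH g h) : y • c ∈ line hH g h := fun x hx => by
  rw [← mul_smul, hy x hx, mul_smul, hc x hx]

variable [Finite G] [FaithfulSMul G Ω]

theorem even_card (hH : Hyp G Ω e P) : Even (Nat.card G) := by
  obtain ⟨b, hb⟩ := hH.nontriv
  obtain ⟨g, hg1, hg2⟩ := two_pt hH hb.symm hb
  by_contra hodd
  rw [Nat.not_even_iff_odd] at hodd
  have hsq : ((g * g : G)) • e = e := by rw [mul_smul, hg1, hg2]
  obtain ⟨k, hk⟩ := hodd.of_dvd_nat (orderOf_dvd_natCard g)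
  have h1 : g = (g * g) ^ (k + 1) := by
    rw [← pow_two, ← pow_mul, show 2 * (k + 1) = orderOf g + 1 by omega, pow_add, pow_orderOf_eq_one, one_mul,
      pow_one]
  have h2 : g • e = e := by
    rw [h1]
    exact mem_stabilizer_iff.mp (pow_mem (mem_stabilizer_iff.mpr hsq) _)
  exact hb (hg1.symm.trans h2)

theorem exists_zc (hH : Hyp G Ω e P) (c : Ω) : ∃ x ∈ zc hH c, x ≠ 1 := by
  classical
  haveI := Fact.mk Nat.prime_two
  haveI := finite_points hH
  obtain ⟨z, hz⟩ := exists_prime_orderOf_dvd_card' (G := G) 2 (even_iff_two_dvd.mp (even_card hH))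
  obtain ⟨hz2, hz1⟩ := CfsgLib.Involutions.orderOf_eq_two_iff'.mp hz
  have hzp : IsPGroup 2 (Subgroup.zpowers z) := IsPGroup.of_card (n := 1) (by rw [Nat.card_zpowers, hz, pow_one])
  obtain ⟨b, hzb⟩ : ∃ b : Ω, z • b = b := by
    have h1 := hzp.card_modEq_card_fixedPoints Ω
    by_contra hno
    push Not at hno
    haveI : IsEmpty (fixedPoints (Subgroup.zpowers z) Ω) :=
      ⟨fun c => hno c.1 (c.2 ⟨z, Subgroup.mem_zpowers z⟩)⟩
    rw [Nat.card_of_isEmpty (α := fixedPoints (Subgroup.zpowers z) Ω)] at h1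
    have h2 : Nat.card Ω % 2 = 1 := Nat.odd_iff.mp hH.odd_points
    unfold Nat.ModEq at h1
    omega
  obtain ⟨g, hg⟩ : ∃ g : G, g • b = c := by
    obtain ⟨g₁, h₁⟩ := exists_to hH b
    obtain ⟨g₂, h₂⟩ := exists_to hH c
    exact ⟨g₂ * g₁⁻¹, by rw [mul_smul, inv_smul_eq_iff.mpr h₁.symm, h₂]⟩
  haveI : Nontrivial (pt hH c) :=
    ⟨⟨⟨g * z * g⁻¹, by rw [← hg]; exact conj_pt hH ((mem_pt hH).mpr ⟨hzb, isTwo_of_mul_self hz2⟩) g⟩, 1,
      fun h => hz1 (conj_eq_one_iff.mp (congrArg Subtype.val h))⟩⟩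
  haveI : Nontrivial (Subgroup.center (pt hH c)) := (pt_two_group hH c).center_nontrivial
  obtain ⟨n, hn0, hn⟩ := ((pt_two_group hH c).to_subgroup (Subgroup.center (pt hH c))).nontrivial_iff_card.mp
    inferInstance
  obtain ⟨x, hx⟩ := exists_prime_orderOf_dvd_card' (G := Subgroup.center (pt hH c)) 2
    (by rw [hn]; exact dvd_pow_self 2 (by omega))
  obtain ⟨hx2, hx1⟩ := CfsgLib.Involutions.orderOf_eq_two_iff'.mp hx
  refine ⟨((x : pt hH c) : G), ⟨(x : pt hH c).2, ?_, fun y hy => ?_⟩, fun h => hx1 (Subtype.ext (Subtype.ext h))⟩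
  · exact congrArg (fun w : Subgroup.center (pt hH c) => ((w : pt hH c) : G)) hx2
  · exact (congrArg Subtype.val (Subgroup.mem_center_iff.mp x.2 ⟨y, hy⟩)).symm

theorem inf_conj (hH : Hyp G Ω e P) {p q p' q' : Ω} {g : G} (hp : g • p = p') (hq : g • q = q') :
    Nat.card ↥(pt hH p ⊓ pt hH q) ≤ Nat.card ↥(pt hH p' ⊓ pt hH q') :=
  Nat.card_le_card_of_injective
    (fun x : ↥(pt hH p ⊓ pt hH q) => (⟨g * x * g⁻¹, Subgroup.mem_inf.mpr
      ⟨hp ▸ conj_pt hH (Subgroup.mem_inf.mp x.2).1 g, hq ▸ conj_pt hH (Subgroup.mem_inf.mp x.2).2 g⟩⟩ :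
      ↥(pt hH p' ⊓ pt hH q')))
    fun x y h => Subtype.ext (mul_left_cancel (mul_right_cancel (congrArg Subtype.val h)))

theorem card_inf (hH : Hyp G Ω e P) {p q p' q' : Ω} (h : p ≠ q) (h' : p' ≠ q') :
    Nat.card ↥(pt hH p ⊓ pt hH q) = Nat.card ↥(pt hH p' ⊓ pt hH q') := by
  obtain ⟨g, hp, hq⟩ := two_pt hH h h'
  obtain ⟨g', hp', hq'⟩ := two_pt hH h' h
  exact le_antisymm (inf_conj hH hp hq) (inf_conj hH hp' hq')

/-- Two points determine their line. -/
theorem inf_eq_of_mem_line (hH : Hyp G Ω e P) {g h c d : Ω} (hgh : g ≠ h) (hcd : c ≠ d)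
    (hc : c ∈ line hH g h) (hd : d ∈ line hH g h) : pt hH c ⊓ pt hH d = pt hH g ⊓ pt hH h := by
  refine (Subgroup.eq_of_le_of_card_ge (fun x hx => ?_) (card_inf hH hgh hcd).ge).symm
  have hx2 : IsTwo x := ((mem_pt hH).mp (Subgroup.mem_inf.mp hx).1).2
  exact Subgroup.mem_inf.mpr ⟨(mem_pt hH).mpr ⟨hc x hx, hx2⟩, (mem_pt hH).mpr ⟨hd x hx, hx2⟩⟩

theorem line_eq (hH : Hyp G Ω e P) {g h c d : Ω} (hgh : g ≠ h) (hcd : c ≠ d) (hc : c ∈ line hH g h)
    (hd : d ∈ line hH g h) : line hH c d = line hH g h := by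
  unfold line
  rw [inf_eq_of_mem_line hH hgh hcd hc hd]

/-- The central involutions at a point fix no other point. -/
theorem fix_only (hH : Hyp G Ω e P) {c d : Ω} {x : G} (hx : x ∈ zc hH c) (hx1 : x ≠ 1) (hd : x • d = d) :
    d = c := by
  by_contra hdc
  -- some central involution at `d` moves `c`
  obtain ⟨z, hz, hzc⟩ : ∃ z ∈ zc hH d, z • c ≠ c := by
    by_contra hall
    push Not at hall
    obtain ⟨z, hz, hz1⟩ := exists_zc hH d
    refine hz1 (eq_of_smul_eq_smul (α := Ω) fun b => ?_)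
    rw [one_smul]
    by_cases hb : b = d
    · rw [hb, zc_smul hH hz]
    · obtain ⟨g, hgd, hgc⟩ := two_pt hH hdc (Ne.symm hb)
      have h2 : g⁻¹ • d = d := inv_smul_eq_iff.mpr hgd.symm
      have h1 := hall _ (h2 ▸ conj_zc hH hz g⁻¹)
      rw [inv_inv, mul_smul, mul_smul, hgc, inv_smul_eq_iff, hgc] at h1
      exact h1
  set c' := z • c with hc'
  have hx2 : IsTwo x := isTwo_of_mul_self hx.2.1
  have hzx : z * x = x * z := zc_comm hH hz hd hx2
  have hxc : x • c = c := zc_smul hH hx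
  have hxc' : x • c' = c' := by rw [hc', ← mul_smul, ← hzx, mul_smul, hxc]
  have hx' : x ∈ zc hH c' := by
    have h := conj_zc hH hx z
    rwa [hzx, mul_inv_cancel_right] at h
  refine hx1 (eq_of_smul_eq_smul (α := Ω) fun h => ?_)
  rw [one_smul]
  by_contra hh
  have hhc : h ≠ c := fun e' => hh (by rw [e', hxc])
  have hhc' : h ≠ c' := fun e' => hh (by rw [e', hxc'])
  have e1 : line hH h (x • h) = line hH c h :=
    line_eq hH hhc.symm (Ne.symm hh) (mem_line_right hH c h)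
      (smul_line hH (fun y hy => (hx.2.2 y (Subgroup.mem_inf.mp hy).1).symm) (mem_line_right hH c h))
  have e2 : line hH h (x • h) = line hH c' h :=
    line_eq hH hhc'.symm (Ne.symm hh) (mem_line_right hH c' h)
      (smul_line hH (fun y hy => (hx'.2.2 y (Subgroup.mem_inf.mp hy).1).symm) (mem_line_right hH c' h))
  have hc'mem : c' ∈ line hH c h := by
    rw [← e1, e2]
    exact mem_line_left hH c' h
  have e3 := inf_eq_of_mem_line hH hhc.symm (Ne.symm hzc) (mem_line_left hH c h) hc'mem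
  exact hh (pt_smul hH (Subgroup.mem_inf.mp
    (e3 ▸ Subgroup.mem_inf.mpr ⟨hx.1, hx'.1⟩ : x ∈ pt hH c ⊓ pt hH h)).2)

theorem zc_moves (hH : Hyp G Ω e P) {c d : Ω} {x : G} (hx : x ∈ zc hH c) (hx1 : x ≠ 1) (hdc : d ≠ c) :
    x • d ≠ d := fun h => hdc (fix_only hH hx hx1 h)

/-- An element carrying one central involution to another carries the point too. -/
theorem smul_point (hH : Hyp G Ω e P) {c d : Ω} {x y g : G} (hx : x ∈ zc hH c) (hy : y ∈ zc hH d)
    (hy1 : y ≠ 1) (h : g * x * g⁻¹ = y) : g • c = d :=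
  fix_only hH hy hy1 (by rw [← h, mul_smul, mul_smul, inv_smul_smul, zc_smul hH hx])

/-- Central involutions at different points have product of odd order. -/
theorem odd_mul (hH : Hyp G Ω e P) {c d : Ω} (hcd : c ≠ d) {z w : G} (hz : z ∈ zc hH c) (hz1 : z ≠ 1)
    (hw : w ∈ zc hH d) (hw1 : w ≠ 1) : Odd (orderOf (z * w)) := by
  rw [← Nat.not_even_iff_odd]
  intro heven
  obtain ⟨hc1, hc2⟩ := CfsgLib.Involutions.central_half hz.2.1 hw.2.1 heven
  obtain ⟨hu2, hu1⟩ := CfsgLib.Involutions.orderOf_eq_two_iff'.mp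
    (CfsgLib.Involutions.orderOf_half (x := z) (y := w) heven)
  set m := orderOf (z * w) / 2 with hm
  set u := (z * w) ^ m with hu
  have hconjz : ∀ i : ℤ, (z * w) ^ i * z * ((z * w) ^ i)⁻¹ = z * (z * w) ^ (-(i + i)) := fun i => by
    rw [CfsgLib.Involutions.zpow_mul_eq hz.2.1 hw.2.1, mul_assoc, ← zpow_neg, ← zpow_add,
      show -i + -i = -(i + i) by ring]
  have huc : u • c = c := fix_only hH hz hz1 (by rw [← mul_smul, ← hc1.eq, mul_smul, zc_smul hH hz])
  have hud : u • d = d := fix_only hH hw hw1 (by rw [← mul_smul, ← hc2.eq, mul_smul, zc_smul hH hw])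
  -- `z * u` is conjugate to `z` or to `w` and commutes with `z`
  have key : ∀ (p : Ω) (g x : G), x ∈ zc hH p → g * x * g⁻¹ = z * u → False := by
    intro p g x hx h
    have hmem : z * u ∈ zc hH (g • p) := h ▸ conj_zc hH hx g
    have hne : z * u ≠ 1 := fun e1 => hcd (fix_only hH hw hw1 (by
      have e2 : u = z := by
        rw [← inv_eq_of_mul_eq_one_right hz.2.1]
        exact eq_inv_of_mul_eq_one_right e1
      exact absurd (e2 ▸ hud) (zc_moves hH hz hz1 hcd.symm)))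
    have hfix : (z * u) • c = c := by rw [mul_smul, huc, zc_smul hH hz]
    have hzu : z * u ∈ zc hH c := by
      rwa [fix_only hH hmem hne hfix]
    have hu' : u ∈ zc hH c := by
      have h3 := (zc hH c).mul_mem hz hzu
      rwa [← mul_assoc, hz.2.1, one_mul] at h3
    exact zc_moves hH hu' hu1 hcd.symm hud
  obtain ⟨n, hn⟩ := heven
  have hm' : m = n := by omega
  rcases Nat.even_or_odd' m with ⟨j, hj | hj⟩
  · refine key c ((z * w) ^ (-(j : ℤ))) z hz ?_
    rw [hconjz, hu, ← zpow_natCast]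
    congr 2
    omega
  · refine key d ((z * w) ^ (-(j : ℤ))) w hw ?_
    have hwz : w = z * (z * w) ^ (1 : ℤ) := by rw [zpow_one, ← mul_assoc, hz.2.1, one_mul]
    have e0 : ∀ (v : G) (i : ℤ), v ^ i * (z * v ^ (1 : ℤ)) * (v ^ i)⁻¹ = v ^ i * z * (v ^ i)⁻¹ * v ^ (1 : ℤ) :=
      fun v i => by group
    have e1 := e0 (z * w) (-(j : ℤ))
    rw [← hwz, hconjz, mul_assoc z, ← zpow_add] at e1
    rw [e1, hu, ← zpow_natCast]
    congr 2
    omega

/-- A conjugating element commuting with everything commuting with both. -/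
theorem exists_carrier (hH : Hyp G Ω e P) {c d : Ω} (hcd : c ≠ d) {z w : G} (hz : z ∈ zc hH c) (hz1 : z ≠ 1)
    (hw : w ∈ zc hH d) (hw1 : w ≠ 1) :
    ∃ g : G, g * z * g⁻¹ = w ∧ g • c = d ∧ ∀ y : G, z * y = y * z → w * y = y * w → g * y = y * g := by
  obtain ⟨g, hg, hgz⟩ := CfsgLib.Involutions.exists_conj_eq_of_odd hz.2.1 hw.2.1 (odd_mul hH hcd hz hz1 hw hw1)
  refine ⟨g, hgz, smul_point hH hz hw hw1 hgz, fun y h1 h2 => ?_⟩
  have hle : Subgroup.closure ({z, w} : Set G) ≤ Subgroup.centralizer {y} := by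
    rw [Subgroup.closure_le]
    rintro x (rfl | rfl)
    · exact Subgroup.mem_centralizer_singleton_iff.mpr h1
    · exact Subgroup.mem_centralizer_singleton_iff.mpr h2
  exact Subgroup.mem_centralizer_singleton_iff.mp (hle hg)

/-- The centraliser of the 2-elements fixing two points is transitive on the central involutions at either. -/
theorem exists_trans (hH : Hyp G Ω e P) {c : Ω} {z z' : G} (hz : z ∈ zc hH c) (hz1 : z ≠ 1)
    (hz' : z' ∈ zc hH c) (hz1' : z' ≠ 1) {d : Ω} (hcd : c ≠ d) :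
    ∃ g : G, g • c = c ∧ g * z * g⁻¹ = z' ∧ ∀ y ∈ pt hH c ⊓ pt hH d, g * y = y * g := by
  obtain ⟨w, hw, hw1⟩ := exists_zc hH d
  obtain ⟨g₁, h₁, hp₁, hc₁⟩ := exists_carrier hH hcd hz hz1 hw hw1
  obtain ⟨g₂, h₂, hp₂, hc₂⟩ := exists_carrier hH hcd.symm hw hw1 hz' hz1'
  refine ⟨g₂ * g₁, by rw [mul_smul, hp₁, hp₂], by rw [← h₂, ← h₁]; group, fun y hy => ?_⟩
  obtain ⟨hyc, hyd⟩ := Subgroup.mem_inf.mp hy
  rw [mul_assoc, hc₁ y (hz.2.2 y hyc) (hw.2.2 y hyd), ← mul_assoc, hc₂ y (hw.2.2 y hyd) (hz'.2.2 y hyc),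
    mul_assoc]

theorem conj_card_zc (hH : Hyp G Ω e P) (c d : Ω) : Nat.card (zc hH c) = Nat.card (zc hH d) := by
  have key : ∀ (g : G) (c : Ω), Nat.card (zc hH c) ≤ Nat.card (zc hH (g • c)) := fun g c =>
    Nat.card_le_card_of_injective (fun x : zc hH c => (⟨g * x * g⁻¹, conj_zc hH x.2 g⟩ : zc hH (g • c)))
      fun x y h => Subtype.ext (mul_left_cancel (mul_right_cancel (congrArg Subtype.val h)))
  obtain ⟨g₁, h₁⟩ := exists_to hH c
  obtain ⟨g₂, h₂⟩ := exists_to hH d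
  have hcd : (g₂ * g₁⁻¹) • c = d := by rw [mul_smul, inv_smul_eq_iff.mpr h₁.symm, h₂]
  have hdc : (g₁ * g₂⁻¹) • d = c := by rw [mul_smul, inv_smul_eq_iff.mpr h₂.symm, h₁]
  exact le_antisymm (by simpa [hcd] using key (g₂ * g₁⁻¹) c) (by simpa [hdc] using key (g₁ * g₂⁻¹) d)

theorem not_comm [IsSimpleGroup G] (hH : Hyp G Ω e P) : ∃ g h : G, g * h ≠ h * g := by
  by_contra hall
  push Not at hall
  obtain ⟨x, hx, hx1⟩ := exists_zc hH e
  refine hx1 (eq_of_smul_eq_smul (α := Ω) fun c => ?_)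
  obtain ⟨g, rfl⟩ := exists_to hH c
  rw [one_smul, ← mul_smul, hall x g, mul_smul, zc_smul hH hx]

/-- At least three central involutions at each point. -/
theorem four_le_card_zc [IsSimpleGroup G] (hH : Hyp G Ω e P) (c : Ω) : 4 ≤ Nat.card (zc hH c) := by
  classical
  haveI := Fact.mk Nat.prime_two
  rw [conj_card_zc hH c e]
  obtain ⟨z, hz, hz1⟩ := exists_zc hH e
  by_contra hlt
  have hp : IsPGroup 2 (zc hH e) := (pt_two_group hH e).to_le (zc_le hH e)
  obtain ⟨j, hj⟩ := IsPGroup.iff_card.mp hp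
  have hj1 : j ≤ 1 := by
    by_contra h
    have : 2 ^ 2 ≤ 2 ^ j := Nat.pow_le_pow_right two_pos (by omega)
    omega
  have hcard : Nat.card (zc hH e) ≤ 2 := by
    rw [hj]
    calc 2 ^ j ≤ 2 ^ 1 := Nat.pow_le_pow_right two_pos hj1
      _ = 2 := pow_one 2
  have hone : ∀ x ∈ zc hH e, x ≠ 1 → x = z := by
    intro x hx hx1
    by_contra hxz
    have hinj : Function.Injective (![⟨1, one_mem _⟩, ⟨z, hz⟩, ⟨x, hx⟩] : Fin 3 → zc hH e) := by
      intro i j h
      fin_cases i <;> fin_cases j <;> simp [Subtype.ext_iff] at h ⊢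
      · exact hz1 h.symm
      · exact hx1 h.symm
      · exact hz1 h
      · exact hxz h.symm
      · exact hx1 h
      · exact hxz h
    have h3 := Nat.card_le_card_of_injective _ hinj
    rw [Nat.card_fin] at h3
    omega
  obtain ⟨S, hS⟩ := hH.two_group.exists_le_sylow
  haveI := finite_points hH
  have hSfix : ∃ b : Ω, ∀ x ∈ (S : Subgroup G), x • b = b := by
    have h1 := S.2.card_modEq_card_fixedPoints Ω
    by_contra hno
    push Not at hno
    haveI : IsEmpty (fixedPoints (S : Subgroup G) Ω) :=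
      ⟨fun c => by obtain ⟨x, hx, hne⟩ := hno c.1; exact hne (c.2 ⟨x, hx⟩)⟩
    rw [Nat.card_of_isEmpty (α := fixedPoints (S : Subgroup G) Ω)] at h1
    have h2 : Nat.card Ω % 2 = 1 := Nat.odd_iff.mp hH.odd_points
    unfold Nat.ModEq at h1
    omega
  obtain ⟨b, hb⟩ := hSfix
  have hzS : z ∈ (S : Subgroup G) := hS (pt_self hH ▸ hz.1)
  have hbe : b = e := fix_only hH hz hz1 (hb z hzS)
  subst hbe
  have hiso : ∀ g : G, g * z * g⁻¹ ∈ (S : Subgroup G) → g * z * g⁻¹ = z := by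
    intro g hg
    have hne : g * z * g⁻¹ ≠ 1 := fun h => hz1 (conj_eq_one_iff.mp h)
    have h1 := conj_zc hH hz g
    have h2 := fix_only hH h1 hne (hb _ hg)
    rw [← h2] at h1
    exact hone _ h1 hne
  obtain ⟨N, hN, hNodd, hcomm⟩ := Cfsg.Agent.S0215.result S z
    (CfsgLib.Involutions.orderOf_eq_two_iff'.mpr ⟨hz.2.1, hz1⟩) hzS hiso
  rcases hN.eq_bot_or_eq_top with hN' | hN'
  · have hzc : z ∈ Subgroup.center G := Subgroup.mem_center_iff.mpr fun g => by
      have h1 := hcomm g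
      rw [hN', Subgroup.mem_bot, mul_inv_eq_one, mul_inv_eq_iff_eq_mul] at h1
      exact h1.symm
    rcases (inferInstance : (Subgroup.center G).Normal).eq_bot_or_eq_top with ec | ec
    · rw [ec, Subgroup.mem_bot] at hzc
      exact hz1 hzc
    · obtain ⟨g, h, hgh⟩ := not_comm hH
      exact hgh (Subgroup.mem_center_iff.mp (ec ▸ Subgroup.mem_top h) g)
  · rw [hN', Subgroup.card_top] at hNodd
    exact Nat.not_even_iff_odd.mpr hNodd (even_card hH)

end CfsgLib.BNRankOne
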