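import Cfsg.Agent.Lib.BNRankOne.Tau

/-!
The powers of a torus element permute the classes of lines through a point, and the cosets inside a class.
-/

set_option autoImplicit false
set_option linter.unusedSectionVars false
set_option linter.style.haveILetI false

namespace CfsgLib.BNRankOne

open MulAction

universe u v

section General

variable {G : Type u} [Group G] [Finite G]

/-- A power of prime power order not commuting with a given element. -/
theorem exists_primePow_not_comm {τ z : G} (j : ℕ) (hj : τ ^ j * z ≠ z * τ ^ j) :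
    ∃ m p a : ℕ, p.Prime ∧ orderOf (τ ^ (j * m)) = p ^ a ∧ τ ^ (j * m) * z ≠ z * τ ^ (j * m) := by
  suffices H : ∀ n j : ℕ, orderOf (τ ^ j) = n → τ ^ j * z ≠ z * τ ^ j →
      ∃ m p a : ℕ, p.Prime ∧ orderOf (τ ^ (j * m)) = p ^ a ∧ τ ^ (j * m) * z ≠ z * τ ^ (j * m) from H _ j rfl hj
  intro n
  induction n using Nat.recOnPosPrimePosCoprime with
  | prime_pow p a hp ha => intro j hn hne; exact ⟨1, p, a, hp, by rwa [mul_one], by rwa [mul_one]⟩
  | zero => intro j hn; exact absurd hn (orderOf_pos _).ne'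
  | one => intro j hn hne; rw [orderOf_eq_one_iff.mp hn, one_mul, mul_one] at hne; exact absurd rfl hne
  | coprime a b ha hb hab iha ihb =>
    intro j hn hne
    by_cases h1 : τ ^ (j * a) * z = z * τ ^ (j * a)
    · obtain ⟨m, p, c, hp, ho, hc⟩ := iha (j * b) (by
        rw [pow_mul, orderOf_pow, hn, Nat.gcd_mul_left_left, Nat.mul_div_cancel _ (by omega)]) fun h2 => by
          apply hne
          have h3 : Commute (τ ^ j) z := by
            have e : τ ^ j = (τ ^ (j * a)) ^ Nat.gcdA a b * (τ ^ (j * b)) ^ Nat.gcdB a b := by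
              rw [pow_mul, pow_mul, ← zpow_natCast (τ ^ j) a, ← zpow_natCast (τ ^ j) b, ← zpow_mul, ← zpow_mul,
                ← zpow_add, ← Nat.gcd_eq_gcd_ab, hab, Nat.cast_one, zpow_one]
            rw [e]
            exact ((show Commute (τ ^ (j * a)) z from h1).zpow_left _).mul_left
              ((show Commute (τ ^ (j * b)) z from h2).zpow_left _)
          exact h3
      exact ⟨b * m, p, c, hp, by rwa [← mul_assoc], by rwa [← mul_assoc]⟩
    · obtain ⟨m, p, c, hp, ho, hc⟩ := ihb (j * a) (by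
        rw [pow_mul, orderOf_pow, hn, Nat.gcd_mul_right_left, Nat.mul_div_cancel_left _ (by omega)]) h1
      exact ⟨a * m, p, c, hp, by rwa [← mul_assoc], by rwa [← mul_assoc]⟩

theorem exists_pow_inv (τ : G) (k : ℕ) : ∃ j : ℕ, τ ^ j = (τ ^ k)⁻¹ :=
  (isOfFinOrder_of_finite τ).mem_powers_iff_mem_zpowers.mpr
    (inv_mem (pow_mem (Subgroup.mem_zpowers τ) k))

variable {Ω : Type v} [MulAction G Ω] [Finite Ω]

/-- An element of prime power order fixes a point of an invariant set of order prime to it. -/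
theorem exists_fixed {p a : ℕ} (hp : p.Prime) {σ : G} (hσ : σ ^ p ^ a = 1) {S : Ω → Prop}
    (hS : ∀ c, S c → S (σ • c)) (hcard : ¬ p ∣ Nat.card {c : Ω // S c}) : ∃ c, S c ∧ σ • c = c := by
  classical
  letI := Fintype.ofFinite Ω
  haveI := Fact.mk hp
  have hpow : ∀ (m : ℕ) c, S c → S (σ ^ m • c) := by
    intro m
    induction m with
    | zero => intro c hc; rwa [pow_zero, one_smul]
    | succ m ih => intro c hc; rw [pow_succ', mul_smul]; exact hS _ (ih c hc)
  have hiff : ∀ c, S (MulAction.toPermHom G Ω σ c) ↔ S c := fun c => ⟨fun h => by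
    change S (σ • c) at h
    have h1 := hpow (p ^ a - 1) _ h
    rwa [← mul_smul, ← pow_succ, Nat.sub_add_cancel (Nat.one_le_pow _ _ hp.pos), hσ, one_smul] at h1, hS c⟩
  obtain ⟨c, hc⟩ := Equiv.Perm.exists_fixed_point_of_prime
    (σ := Equiv.Perm.subtypePerm (MulAction.toPermHom G Ω σ) hiff) (n := a)
    (by rwa [← Nat.card_eq_fintype_card]) (by
      rw [Equiv.Perm.subtypePerm_pow]
      refine Equiv.ext fun c => Subtype.ext ?_
      show ((MulAction.toPermHom G Ω σ) ^ p ^ a) c.1 = c.1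
      rw [← map_pow, hσ, map_one]
      rfl)
  exact ⟨c.1, c.2, congrArg Subtype.val hc⟩

end General

variable {G : Type u} {Ω : Type v} [Group G] [MulAction G Ω] {e : Ω} {P : Subgroup G}
  [Finite G] [FaithfulSMul G Ω] [IsSimpleGroup G] (hH : Hyp G Ω e P) {f : Ω} (hf : f ≠ e)
  (hP0 : p0 hH f ≠ ⊥) {τ : G} (hτ : Torus hH f τ)

include hH hf

theorem card_zc_pow : ∃ l, 2 ≤ l ∧ Nat.card (zc hH e) = 2 ^ l := by
  haveI := Fact.mk Nat.prime_two
  obtain ⟨l, hl⟩ := IsPGroup.iff_card.mp ((pt_two_group hH e).to_le (zc_le hH e))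
  refine ⟨l, ?_, hl⟩
  by_contra h
  have h1 : 2 ^ l ≤ 2 ^ 1 := Nat.pow_le_pow_right two_pos (by omega)
  have h2 := four_le_card_zc hH e
  omega

theorem card_zs : Nat.card (Zs hH e) + 1 = Nat.card (zc hH e) := by
  classical
  rw [← Finite.card_option]
  exact Nat.card_congr
    { toFun := fun o => o.elim 1 fun x => ⟨x.1, x.2.1⟩
      invFun := fun x => if hx : (x : G) = 1 then none else some ⟨x, x.2, hx⟩
      left_inv := fun o => by
        cases o with
        | none => simp
        | some x => simp [x.2.2]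
      right_inv := fun x => by
        dsimp only
        split
        · exact Subtype.ext (by simpa using ‹(x : G) = 1›.symm)
        · rfl }

include hP0

/-- The other points of the line. -/
theorem exists_line_zc {c : Ω} (hc : c ∈ line hH e f) (hce : c ≠ e) : ∃ z ∈ zc hH e, z • f = c := by
  obtain ⟨y, hy, hy2, hy1⟩ := exists_invol hH hP0
  exact (exists_zc_line hH twoClosedTrans hf hy2 hy1 hy (hc y hy) hce).2

include hτ

omit hf hP0 in
theorem tau_e (k : ℕ) : τ ^ k • e = e :=
  mem_stabilizer_iff.mp (pow_mem (mem_stabilizer_iff.mpr hτ.fix_e) k)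

omit hf hP0 in
theorem tau_f (k : ℕ) : τ ^ k • f = f :=
  mem_stabilizer_iff.mp (pow_mem (mem_stabilizer_iff.mpr hτ.fix_f) k)

omit hf hP0 in
theorem tau_p0 (k : ℕ) {x : G} (hx : x ∈ p0 hH f) : τ ^ k * x = x * τ ^ k :=
  ((show Commute τ x from hτ.comm x hx).pow_left k).eq

omit hf hP0 in
theorem tau_zc (k : ℕ) {z : G} (hz : z ∈ zc hH e) : τ ^ k * z * (τ ^ k)⁻¹ ∈ zc hH e := by
  have h := conj_zc hH hz (τ ^ k)
  rwa [tau_e hH hτ k] at h

/-- A power of `τ` not centralising the central involutions fixes only `e` and `f`. -/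
theorem fix_line {j : ℕ} (hj : ∀ z ∈ zc hH e, z ≠ 1 → τ ^ j * z ≠ z * τ ^ j) {h : Ω} (hh : τ ^ j • h = h) :
    h = e ∨ h = f := by
  obtain ⟨y, hy, hy2, hy1⟩ := exists_invol hH hP0
  have hσy := tau_p0 hH hτ j hy
  have line_case : ∀ c ∈ line hH e f, τ ^ j • c = c → c = e ∨ c = f := by
    intro c hc hfix
    by_cases hce : c = e
    · exact Or.inl hce
    obtain ⟨z, hz, rfl⟩ := exists_line_zc hH hf hP0 hc hce
    by_cases hz1 : z = 1
    · exact Or.inr (by rw [hz1, one_smul])
    exfalso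
    set z' := τ ^ j * z * (τ ^ j)⁻¹ with hz'
    have hz'f : z' • f = z • f := by
      rw [hz', mul_smul, mul_smul, inv_smul_eq_iff.mpr (tau_f hH hτ j).symm, hfix]
    have hne : z⁻¹ * z' ≠ 1 := fun e1 => hj z hz hz1 (by
      rw [inv_mul_eq_one] at e1
      exact (mul_inv_eq_iff_eq_mul.mp e1.symm))
    exact zc_moves hH (mul_mem (inv_mem hz) (tau_zc hH hτ j hz)) hne hf (by
      rw [mul_smul, hz'f, inv_smul_smul])
  by_cases hL : h ∈ line hH e f
  · exact line_case h hL hh
  exfalso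
  have hyh : y • h ≠ h := fun e1 => hL (p0_fix_line hH hf hP0 hy hy1 e1)
  obtain ⟨p, x, hp, hx, hx1, hxh, -⟩ := exists_agree hH hy2 hyh
  have hxh' : (τ ^ j * x * (τ ^ j)⁻¹) • h = y • h := by
    rw [mul_smul, mul_smul, inv_smul_eq_iff.mpr hh.symm, hxh, ← mul_smul, hσy, mul_smul, hh]
  have hp' : y • τ ^ j • p = τ ^ j • p := by rw [← mul_smul, ← hσy, mul_smul, hp]
  obtain ⟨hpp, hxx⟩ := swap_unique hH hy2 hyh hp hp' hx hx1 (conj_zc hH hx (τ ^ j))
    (fun e1 => hx1 (conj_eq_one_iff.mp e1)) hxh hxh'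
  have hcom : τ ^ j * x = x * τ ^ j := mul_inv_eq_iff_eq_mul.mp hxx.symm
  have key : ∀ c ∈ line hH e f, τ ^ j • c = c → x • c ∈ line hH e f → c ≠ p →
      x • c = e ∨ x • c = f := fun c _ hc hxc _ =>
    line_case _ hxc (by rw [← mul_smul, hcom, mul_smul, hc])
  rcases line_case p (p0_fix_line hH hf hP0 hy hy1 hp) hpp.symm with rfl | rfl
  · have hxf : x • f ∈ line hH p f := smul_line hH (fun v hv => (hx.2.2 v (Subgroup.mem_inf.mp hv).1).symm)
      (mem_line_right hH p f)
    rcases key f (mem_line_right hH p f) (tau_f hH hτ j) hxf hf with h1 | h1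
    · exact hf (MulAction.injective x (h1.trans (zc_smul hH hx).symm))
    · exact zc_moves hH hx hx1 hf h1
  · have hxe : x • e ∈ line hH e p := smul_line hH (fun v hv => (hx.2.2 v (Subgroup.mem_inf.mp hv).2).symm)
      (mem_line_left hH e p)
    rcases key e (mem_line_left hH e p) (tau_e hH hτ j) hxe hf.symm with h1 | h1
    · exact zc_moves hH hx hx1 hf.symm h1
    · exact hf.symm (MulAction.injective x (h1.trans (zc_smul hH hx).symm))

/-- A power of `τ` fixing a set of 2-power order avoiding `e` and `f` centralises the central involutions. -/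
theorem cent_of_inv (j : ℕ) {S : Ω → Prop} (hS : ∀ c, S c → S (τ ^ j • c)) (he : ¬ S e) (hfS : ¬ S f) {i : ℕ}
    (hcard : Nat.card {c : Ω // S c} = 2 ^ i) {z : G} (hz : z ∈ zc hH e) : τ ^ j * z = z * τ ^ j := by
  haveI := finite_points hH
  by_contra hne
  obtain ⟨m, p, a, hp, ho, hne'⟩ := exists_primePow_not_comm j hne
  have hfree : ∀ z' ∈ zc hH e, z' ≠ 1 → τ ^ (j * m) * z' ≠ z' * τ ^ (j * m) := fun z' hz' hz1' h1 =>
    hne' (hτ.free _ z' hz' hz1' h1 z hz)
  have hinv : ∀ c, S c → S (τ ^ (j * m) • c) := by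
    intro c hc
    rw [pow_mul]
    clear ho hne' hfree
    induction m with
    | zero => rwa [pow_zero, one_smul]
    | succ m ih => rw [pow_succ', mul_smul]; exact hS _ ih
  have hp2 : p ≠ 2 := by
    rintro rfl
    obtain _ | a := a
    · rw [pow_zero] at ho
      rw [orderOf_eq_one_iff.mp ho, one_mul, mul_one] at hne'
      exact hne' rfl
    · have h1 : Odd (2 ^ (a + 1)) := ho ▸ hτ.odd.of_dvd_nat (orderOf_pow_dvd _)
      rw [Nat.odd_iff, pow_succ] at h1
      omega
  obtain ⟨c, hc, hfix⟩ := exists_fixed hp (a := a) (by rw [← ho, pow_orderOf_eq_one]) hinv (by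
    rw [hcard]
    exact fun h => hp2 ((Nat.prime_dvd_prime_iff_eq hp Nat.prime_two).mp (hp.dvd_of_dvd_pow h)))
  rcases fix_line hH hf hP0 hτ hfree hfix with rfl | rfl
  exacts [he hc, hfS hc]

/-- Orbits of the powers of `τ` on a set of `q` elements with one fixed point and trivial stabilisers. -/
theorem orbit_full {X : Type u} [Finite X] (hX : Nat.card X = Nat.card (zc hH e)) (x0 : X) (act : ℕ → X)
    (hne : ∀ k, act k ≠ x0)
    (hfree : ∀ k k', act k = act k' → ∀ z ∈ zc hH e,
      ∃ j, τ ^ j = (τ ^ k')⁻¹ * τ ^ k ∧ τ ^ j * z = z * τ ^ j)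
    {x : X} (hx : x ≠ x0) : ∃ k, act k = x := by
  classical
  obtain ⟨z0, hz0, hz01⟩ := exists_zc hH e
  choose k hk using fun z : Zs hH e => hτ.trans z0 hz0 hz01 z z.2.1 z.2.2
  let φ : Option (Zs hH e) → X := fun o => o.elim x0 fun z => act (k z)
  have hφ : Function.Injective φ := by
    rintro (_ | z) (_ | z') h
    · rfl
    · exact absurd h.symm (hne _)
    · exact absurd h (hne _)
    · obtain ⟨j, hj, hjc⟩ := hfree _ _ h z0 hz0
      refine congrArg some (Subtype.ext ?_)
      rw [← hk z, ← hk z', show τ ^ k z = τ ^ k z' * τ ^ j by rw [hj, mul_inv_cancel_left], mul_inv_rev,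
        show τ ^ k z' * τ ^ j * z0 * ((τ ^ j)⁻¹ * (τ ^ k z')⁻¹) = τ ^ k z' * (τ ^ j * z0) * (τ ^ j)⁻¹ *
          (τ ^ k z')⁻¹ by group, hjc]
      group
  obtain ⟨o, ho⟩ := (hφ.bijective_of_nat_card_le (by rw [Finite.card_option, card_zs hH hf, hX])).2 x
  cases o with
  | none => exact absurd ho.symm hx
  | some z => exact ⟨k z, ho⟩

end CfsgLib.BNRankOne
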