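import Cfsg.Agent.Lib.BNRankOne.Lines
import Cfsg.Agent.Lib.Bender.TwoClosed.Main
import Cfsg.Agent.Lib.SuzukiRankOne.Main

/-!
If an involution fixes two points, the 2-elements fixing two points form an elementary abelian group, and the
lines through a point fall into classes of `q` lines.
-/

set_option autoImplicit false
set_option linter.unusedSectionVars false
set_option linter.style.haveILetI false

namespace CfsgLib.BNRankOne

open MulAction

universe u v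

theorem twoClosedTrans : TwoClosedTrans.{u, v} := fun _G _Ω _ _ _ _ _a _S hC =>
  CfsgLib.Bender.TwoClosed.trans (fun _ _ _ _ _ _ _ _ _ hS h4 => CfsgLib.SuzukiRankOne.concl hS h4) hC

variable {G : Type u} {Ω : Type v} [Group G] [MulAction G Ω] {e : Ω} {P : Subgroup G}

/-- The product of `P₀` and the central involutions at `e`. -/
noncomputable def e0 (hH : Hyp G Ω e P) (f : Ω) : Subgroup G where
  carrier := {x | ∃ z ∈ zc hH e, z⁻¹ * x ∈ p0 hH f}
  one_mem' := ⟨1, one_mem _, by rw [inv_one, one_mul]; exact one_mem _⟩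
  mul_mem' := fun {x x'} ⟨z, hz, hx⟩ ⟨z', hz', hx'⟩ => ⟨z * z', mul_mem hz hz', by
    have hc := ((zc hH e).inv_mem hz').2.2 _ (Subgroup.mem_inf.mp hx).1
    rw [show (z * z')⁻¹ * (x * x') = z'⁻¹ * (z⁻¹ * x) * x' by group, hc, mul_assoc]
    exact mul_mem hx hx'⟩
  inv_mem' := fun {x} ⟨z, hz, hx⟩ => ⟨z⁻¹, inv_mem hz, by
    have hc := hz.2.2 _ (Subgroup.mem_inf.mp (inv_mem hx)).1
    rw [show z⁻¹⁻¹ * x⁻¹ = z * (z⁻¹ * x)⁻¹ * z⁻¹ by group, hc, mul_inv_cancel_right]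
    exact inv_mem hx⟩

theorem mem_e0 (hH : Hyp G Ω e P) {f : Ω} {x : G} : x ∈ e0 hH f ↔ ∃ z ∈ zc hH e, z⁻¹ * x ∈ p0 hH f := Iff.rfl

theorem p0_le_e0 (hH : Hyp G Ω e P) (f : Ω) : p0 hH f ≤ e0 hH f := fun x hx =>
  ⟨1, one_mem _, by rw [inv_one, one_mul]; exact hx⟩

theorem zc_le_e0 (hH : Hyp G Ω e P) (f : Ω) : zc hH e ≤ e0 hH f := fun x hx =>
  ⟨x, hx, by rw [inv_mul_cancel]; exact one_mem _⟩

theorem e0_le (hH : Hyp G Ω e P) (f : Ω) : e0 hH f ≤ P := by
  rintro x ⟨z, hz, hx⟩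
  rw [show x = z * (z⁻¹ * x) by group, ← pt_self hH]
  exact mul_mem hz.1 (Subgroup.mem_inf.mp hx).1

theorem conj_p0 (hH : Hyp G Ω e P) {f : Ω} {b x : G} (hb : b • e = e) (hx : x ∈ p0 hH f) :
    b * x * b⁻¹ ∈ p0 hH (b • f) :=
  Subgroup.mem_inf.mpr ⟨(congrArg (pt hH) hb) ▸ conj_pt hH (Subgroup.mem_inf.mp hx).1 b,
    conj_pt hH (Subgroup.mem_inf.mp hx).2 b⟩

theorem conj_e0 (hH : Hyp G Ω e P) {f : Ω} {b x : G} (hb : b • e = e) (hx : x ∈ e0 hH f) :
    b * x * b⁻¹ ∈ e0 hH (b • f) := by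
  obtain ⟨z, hz, hzx⟩ := hx
  refine ⟨b * z * b⁻¹, (congrArg (zc hH) hb) ▸ conj_zc hH hz b, ?_⟩
  rw [show (b * z * b⁻¹)⁻¹ * (b * x * b⁻¹) = b * (z⁻¹ * x) * b⁻¹ by group]
  exact conj_p0 hH hb hzx

variable [Finite G] [FaithfulSMul G Ω] [IsSimpleGroup G] (hH : Hyp G Ω e P) {f : Ω} (hf : f ≠ e)
  (hP0 : p0 hH f ≠ ⊥)

include hH hf hP0

theorem p0_ne_bot {h : Ω} (hh : h ≠ e) : p0 hH h ≠ ⊥ := by
  intro h0
  refine hP0 (Subgroup.eq_bot_of_card_eq _ ?_)
  rw [card_inf hH hf.symm hh.symm]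
  show Nat.card (p0 hH h) = 1
  rw [h0, Subgroup.card_bot]

omit hf hP0 in
theorem exists_invol {f : Ω} (hP : p0 hH f ≠ ⊥) : ∃ y ∈ p0 hH f, y * y = 1 ∧ y ≠ 1 := by
  haveI := Fact.mk Nat.prime_two
  haveI : Nontrivial (p0 hH f) := (Subgroup.nontrivial_iff_ne_bot _).mpr hP
  obtain ⟨n, hn0, hn⟩ := ((pt_two_group hH e).to_le (inf_le_left : p0 hH f ≤ pt hH e)).nontrivial_iff_card.mp
    inferInstance
  obtain ⟨y, hy⟩ := exists_prime_orderOf_dvd_card' (G := p0 hH f) 2 (by rw [hn]; exact dvd_pow_self 2 (by omega))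
  obtain ⟨h2, h1⟩ := CfsgLib.Involutions.orderOf_eq_two_iff'.mp hy
  exact ⟨y, y.2, congrArg Subtype.val h2, fun e1 => h1 (Subtype.ext e1)⟩

omit hP0 in
/-- The product of an involution fixing two points with a central involution at one of them fixes two points. -/
theorem exists_fix_mul {y : G} (hy2 : y * y = 1) (hy1 : y ≠ 1) {a b : Ω} (hab : a ≠ b) (ha : y • a = a)
    (hb : y • b = b) {z : G} (hz : z ∈ zc hH a) (hz1 : z ≠ 1) : ∃ c : Ω, c ≠ a ∧ (y * z) • c = c := by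
  classical
  haveI := finite_points hH
  by_contra hno
  push Not at hno
  have hcount := card_moved hH hy2 hab ha hb hz hz1
  obtain ⟨hA, hn⟩ := nfix_eq hH twoClosedTrans hf hy2 hy1 hab ha hb
  have hq4 := four_le_card_zc hH e
  have h1 : nfix Ω (y * z) ≤ 1 := by
    haveI : Subsingleton {c : Ω // (y * z) • c = c} := ⟨fun x x' => Subtype.ext (by
      have key : ∀ w : {c : Ω // (y * z) • c = c}, w.1 = a := fun w => by
        by_contra hw
        exact hno w.1 hw w.2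
      rw [key x, key x'])⟩
    exact Finite.card_le_one_iff_subsingleton.mpr inferInstance
  rw [show nfix Ω (y * z) - 1 = 0 by omega, mul_zero, mul_zero, add_zero, hA, card_omega hH, hn] at hcount
  have h2 : Nat.card (zc hH e) * 1 < Nat.card (zc hH e) ^ 3 := by
    rw [pow_succ']
    exact (Nat.mul_lt_mul_left (by omega)).mpr (Nat.one_lt_pow two_ne_zero (by omega))
  omega

/-- A 2-element fixing `e`, `f` and a point off their line is trivial. -/
theorem p0_fix_off {x : G} (hx : x ∈ p0 hH f) {h : Ω} (hxh : x • h = h) (hh : h ∉ line hH e f) : x = 1 := by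
  haveI := Fact.mk Nat.prime_two
  by_contra hx1
  haveI : Nontrivial (Subgroup.zpowers x) :=
    (Subgroup.nontrivial_iff_ne_bot _).mpr (fun h0 => hx1 (Subgroup.zpowers_eq_bot.mp h0))
  obtain ⟨n, hn0, hn⟩ := (((pt_two_group hH e).to_le (inf_le_left : p0 hH f ≤ pt hH e)).to_le
    (Subgroup.zpowers_le.mpr hx)).nontrivial_iff_card.mp inferInstance
  obtain ⟨u, hu⟩ := exists_prime_orderOf_dvd_card' (G := Subgroup.zpowers x) 2
    (by rw [hn]; exact dvd_pow_self 2 (by omega))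
  obtain ⟨h2, h1⟩ := CfsgLib.Involutions.orderOf_eq_two_iff'.mp hu
  refine hh (mem_line_of_fix hH twoClosedTrans hf (y := (u : G)) (congrArg Subtype.val h2)
    (fun e1 => h1 (Subtype.ext e1)) (Subgroup.zpowers_le.mpr hx u.2) ?_)
  exact mem_stabilizer_iff.mp (Subgroup.zpowers_le.mpr (mem_stabilizer_iff.mpr hxh) u.2)

/-- `P₀` is elementary abelian. -/
theorem p0_sq {x : G} (hx : x ∈ p0 hH f) : x * x = 1 := by
  haveI := Fact.mk Nat.prime_two
  -- an involution central in `P₀`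
  haveI : Nontrivial (p0 hH f) := (Subgroup.nontrivial_iff_ne_bot _).mpr hP0
  have hp : IsPGroup 2 (p0 hH f) := (pt_two_group hH e).to_le inf_le_left
  haveI : Nontrivial (Subgroup.center (p0 hH f)) := hp.center_nontrivial
  obtain ⟨n, hn0, hn⟩ := (hp.to_subgroup (Subgroup.center (p0 hH f))).nontrivial_iff_card.mp inferInstance
  obtain ⟨u, hu⟩ := exists_prime_orderOf_dvd_card' (G := Subgroup.center (p0 hH f)) 2
    (by rw [hn]; exact dvd_pow_self 2 (by omega))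
  obtain ⟨hu2, hu1⟩ := CfsgLib.Involutions.orderOf_eq_two_iff'.mp hu
  set y : G := ((u : p0 hH f) : G) with hy
  have hy2 : y * y = 1 := congrArg (fun w : Subgroup.center (p0 hH f) => ((w : p0 hH f) : G)) hu2
  have hy1 : y ≠ 1 := fun e1 => hu1 (Subtype.ext (Subtype.ext e1))
  have hyP : y ∈ p0 hH f := (u : p0 hH f).2
  have hyc : ∀ w ∈ p0 hH f, y * w = w * y := fun w hw =>
    (congrArg Subtype.val (Subgroup.mem_center_iff.mp u.2 ⟨w, hw⟩)).symm
  have hye : y • e = e := pt_smul hH (Subgroup.mem_inf.mp hyP).1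
  -- a second line
  obtain ⟨z, hz, hz1⟩ := exists_zc hH e
  obtain ⟨h, hhe, hih⟩ := exists_fix_mul hH hf hy2 hy1 hf.symm hye (pt_smul hH (Subgroup.mem_inf.mp hyP).2) hz hz1
  have hzy : z * y = y * z := hz.2.2 y (Subgroup.mem_inf.mp hyP).1
  set i := y * z with hi
  have hi2 : i * i = 1 := by
    rw [hi, mul_assoc, ← mul_assoc z y z, hzy, mul_assoc y z z, hz.2.1, mul_one, hy2]
  have hi1 : i ≠ 1 := fun e1 => hz1 (by
    by_contra hne
    refine zc_moves hH hz hne hf ?_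
    rw [show z = y⁻¹ * i by rw [hi]; group, e1, mul_one, inv_smul_eq_iff, pt_smul hH (Subgroup.mem_inf.mp hyP).2])
  have hie : i • e = e := by rw [hi, mul_smul, zc_smul hH hz, hye]
  have hiP : i ∈ p0 hH h := Subgroup.mem_inf.mpr ⟨(mem_pt hH).mpr ⟨hie, isTwo_of_mul_self hi2⟩,
    (mem_pt hH).mpr ⟨hih, isTwo_of_mul_self hi2⟩⟩
  have hoff : h ∉ line hH e f := fun hL => zc_moves hH hz hz1 hhe (by
    have h1 : y • h = h := hL y hyP
    have h2 := hih
    rw [mul_smul] at h2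
    exact MulAction.injective y (h2.trans h1.symm))
  -- `x` moves `h` along the second line
  have hxy : x * i = i * x := by
    rw [hi, ← mul_assoc, ← hyc x hx, mul_assoc, ← hz.2.2 x (Subgroup.mem_inf.mp hx).1, mul_assoc]
  have hne : x • h ≠ e := fun e1 => hhe (MulAction.injective x
    (e1.trans (pt_smul hH (Subgroup.mem_inf.mp hx).1).symm))
  obtain ⟨-, w, hw, hwh⟩ := exists_zc_line hH twoClosedTrans hhe hi2 hi1 hiP
    (show i • x • h = x • h by rw [← mul_smul, ← hxy, mul_smul, hih]) hne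
  refine p0_fix_off hH hf hP0 (mul_mem hx hx) ?_ hoff
  have hwx : w * x = x * w := hw.2.2 x (Subgroup.mem_inf.mp hx).1
  rw [mul_smul, ← hwh, ← mul_smul, ← hwx, mul_smul, ← hwh, ← mul_smul, hw.2.1, one_smul]

theorem p0_comm {x y : G} (hx : x ∈ p0 hH f) (hy : y ∈ p0 hH f) : x * y = y * x := by
  have h := p0_sq hH hf hP0 (mul_mem hx hy)
  calc x * y = x * y * (y * x * (y * x))⁻¹ := by rw [p0_sq hH hf hP0 (mul_mem hy hx), inv_one, mul_one]
    _ = x * y * (x⁻¹ * y⁻¹ * (x⁻¹ * y⁻¹)) := by group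
    _ = x * y * (x * y * (x * y)) := by
      rw [inv_eq_of_mul_eq_one_right (p0_sq hH hf hP0 hx), inv_eq_of_mul_eq_one_right (p0_sq hH hf hP0 hy)]
    _ = x * y := by rw [h, mul_one]
    _ = (y⁻¹ * x⁻¹)⁻¹ := by group
    _ = (y * x)⁻¹ := by
      rw [inv_eq_of_mul_eq_one_right (p0_sq hH hf hP0 hx), inv_eq_of_mul_eq_one_right (p0_sq hH hf hP0 hy)]
    _ = y * x := inv_eq_of_mul_eq_one_right (p0_sq hH hf hP0 (mul_mem hy hx))

/-- A non-trivial element of `P₀` is an involution fixing exactly the line. -/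
theorem p0_fix_line {y : G} (hy : y ∈ p0 hH f) (hy1 : y ≠ 1) {c : Ω} (hc : y • c = c) : c ∈ line hH e f :=
  mem_line_of_fix hH twoClosedTrans hf (p0_sq hH hf hP0 hy) hy1 hy hc

/-- The centraliser in `P` of a non-trivial element of `P₀`. -/
theorem cent_p0 {y : G} (hy : y ∈ p0 hH f) (hy1 : y ≠ 1) {x : G} (hx : x ∈ P) (hxy : x * y = y * x) :
    x ∈ e0 hH f :=
  cent_P hH twoClosedTrans hf (p0_sq hH hf hP0 hy) hy1 hy hx hxy

theorem e0_sq {x : G} (hx : x ∈ e0 hH f) : x * x = 1 := by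
  obtain ⟨z, hz, hzx⟩ := hx
  have hc := hz.2.2 _ (Subgroup.mem_inf.mp hzx).1
  calc x * x = z * (z⁻¹ * x) * (z * (z⁻¹ * x)) := by group
    _ = z * z * ((z⁻¹ * x) * (z⁻¹ * x)) := by
      rw [show z * (z⁻¹ * x) * (z * (z⁻¹ * x)) = z * ((z⁻¹ * x) * z) * (z⁻¹ * x) by group, ← hc]
      group
    _ = 1 := by rw [hz.2.1, p0_sq hH hf hP0 hzx, one_mul]

theorem e0_comm {x y : G} (hx : x ∈ e0 hH f) (hy : y ∈ e0 hH f) : x * y = y * x := by
  have h := e0_sq hH hf hP0 (mul_mem hx hy)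
  rw [show x * y = (x * y)⁻¹ from (inv_eq_of_mul_eq_one_right h).symm, mul_inv_rev,
    inv_eq_of_mul_eq_one_right (e0_sq hH hf hP0 hx), inv_eq_of_mul_eq_one_right (e0_sq hH hf hP0 hy)]

omit hP0 in
theorem card_e0 : Nat.card (e0 hH f) = Nat.card (zc hH e) * Nat.card (p0 hH f) := by
  classical
  rw [← Nat.card_prod]
  refine (Nat.card_eq_of_bijective (fun p : zc hH e × p0 hH f =>
    (⟨p.1 * p.2, mul_mem (zc_le_e0 hH f p.1.2) (p0_le_e0 hH f p.2.2)⟩ : e0 hH f)) ⟨?_, ?_⟩).symm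
  · rintro ⟨⟨z, hz⟩, ⟨x, hx⟩⟩ ⟨⟨z', hz'⟩, ⟨x', hx'⟩⟩ h
    have h' : z * x = z' * x' := congrArg Subtype.val h
    have h1 : z'⁻¹ * z = x' * x⁻¹ := by
      calc z'⁻¹ * z = z'⁻¹ * (z * x) * x⁻¹ := by group
        _ = x' * x⁻¹ := by rw [h']; group
    have hzz : z'⁻¹ * z = 1 := by
      by_contra hne
      refine zc_moves hH (mul_mem (inv_mem hz') hz) hne hf ?_
      rw [h1]
      exact pt_smul hH (Subgroup.mem_inf.mp (mul_mem hx' (inv_mem hx))).2
    obtain rfl := (inv_mul_eq_one.mp hzz).symm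
    obtain rfl := mul_left_cancel h'
    rfl
  · rintro ⟨x, z, hz, hzx⟩
    exact ⟨(⟨z, hz⟩, ⟨_, hzx⟩), Subtype.ext (mul_inv_cancel_left z x)⟩

/-- A point fixed by `y z` determines a line of the same class. -/
theorem class_eq {h : Ω} (hh : h ≠ e) {u : G} (hu : u ∈ p0 hH h) (hu1 : u ≠ 1) (huE : u ∈ e0 hH f) :
    e0 hH h = e0 hH f := by
  have hP0h := p0_ne_bot hH hf hP0 hh
  symm
  refine Subgroup.eq_of_le_of_card_ge ?_ ?_
  · rintro x ⟨z, hz, hzx⟩
    have hzxE : z⁻¹ * x ∈ e0 hH f := p0_le_e0 hH f hzx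
    have h1 := cent_p0 hH hh hP0h hu hu1 (e0_le hH f hzxE) (e0_comm hH hf hP0 hzxE huE)
    rw [show x = z * (z⁻¹ * x) by group]
    exact mul_mem (zc_le_e0 hH h hz) h1
  · rw [card_e0 hH hf, card_e0 hH hh, card_inf hH hf.symm hh.symm]

/-- Each class has `q²` points. -/
theorem card_class : Nat.card {c : Ω // c ≠ e ∧ e0 hH c = e0 hH f} = Nat.card (zc hH e) ^ 2 := by
  classical
  haveI := finite_points hH
  obtain ⟨y, hy, hy2, hy1⟩ := exists_invol hH hP0
  have hye : y • e = e := pt_smul hH (Subgroup.mem_inf.mp hy).1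
  have hyf : y • f = f := pt_smul hH (Subgroup.mem_inf.mp hy).2
  have hex : ∀ z : zc hH e, ∃ h : Ω, h ≠ e ∧ (y * z) • h = h := fun z => by
    by_cases hz1 : (z : G) = 1
    · exact ⟨f, hf, by rw [hz1, mul_one, hyf]⟩
    · exact exists_fix_mul hH hf hy2 hy1 hf.symm hye hyf z.2 hz1
  choose h hhe hfix using hex
  have hmem : ∀ z : zc hH e, y * (z : G) ∈ e0 hH f ∧ y * (z : G) ∈ p0 hH (h z) ∧ y * (z : G) ≠ 1 := fun z => by
    have hE : y * (z : G) ∈ e0 hH f := mul_mem (p0_le_e0 hH f hy) (zc_le_e0 hH f z.2)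
    have h2 := isTwo_of_mul_self (e0_sq hH hf hP0 hE)
    refine ⟨hE, Subgroup.mem_inf.mpr ⟨(mem_pt hH).mpr ⟨by rw [mul_smul, zc_smul hH z.2, hye], h2⟩,
      (mem_pt hH).mpr ⟨hfix z, h2⟩⟩, fun e1 => ?_⟩
    have hz : (z : G) = y := by rw [← inv_eq_of_mul_eq_one_right e1, inv_eq_of_mul_eq_one_right hy2]
    exact hf (fix_only hH z.2 (by rw [hz]; exact hy1) (by rw [hz, hyf]))
  let ψ : zc hH e × zc hH e → {c : Ω // c ≠ e ∧ e0 hH c = e0 hH f} := fun p =>
    ⟨(p.2 : G) • h p.1, fun e1 => hhe p.1 (MulAction.injective (p.2 : G) (e1.trans (zc_smul hH p.2.2).symm)), by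
      refine class_eq hH hf hP0
        (fun e1 => hhe p.1 (MulAction.injective (p.2 : G) (e1.trans (zc_smul hH p.2.2).symm)))
        ?_ (hmem p.1).2.2 (hmem p.1).1
      have h1 := conj_p0 hH (zc_smul hH p.2.2) (hmem p.1).2.1
      rwa [p.2.2.2.2 (y * p.1) (Subgroup.mem_inf.mp (hmem p.1).2.1).1, mul_inv_cancel_right] at h1⟩
  refine (Nat.card_eq_of_bijective ψ ⟨?_, ?_⟩).symm.trans ?_
  · rintro ⟨z, w⟩ ⟨z', w'⟩ e1
    have e2 : (w : G) • h z = (w' : G) • h z' := congrArg Subtype.val e1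
    have hfz : ∀ (z w : zc hH e), (y * (z : G)) • ((w : G) • h z) = (w : G) • h z := fun z w => by
      rw [← mul_smul, ← w.2.2.2 (y * z) (Subgroup.mem_inf.mp (hmem z).2.1).1, mul_smul, hfix z]
    have hzz : z = z' := by
      by_contra hne
      have h1 := hfz z w
      have h2 := hfz z' w'
      rw [← e2, mul_smul] at h2
      rw [mul_smul] at h1
      refine zc_moves hH (mul_mem (inv_mem z'.2) z.2) (fun e3 => hne (Subtype.ext (inv_mul_eq_one.mp e3).symm))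
        (fun e3 => hhe z (MulAction.injective (w : G) (e3.trans (zc_smul hH w.2).symm))) ?_
      rw [mul_smul, inv_smul_eq_iff]
      exact MulAction.injective y (h1.trans h2.symm)
    subst hzz
    have hww : w = w' := by
      by_contra hne
      refine zc_moves hH (mul_mem (inv_mem w'.2) w.2) (fun e3 => hne (Subtype.ext (inv_mul_eq_one.mp e3).symm))
        (hhe z) ?_
      rw [mul_smul, e2, inv_smul_smul]
    rw [hww]
  · rintro ⟨c, hce, hc⟩
    obtain ⟨w0, hw0, hu⟩ := (hc.symm ▸ p0_le_e0 hH f hy : y ∈ e0 hH c)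
    have hyw : w0⁻¹ * y = y * w0 := by
      rw [inv_eq_of_mul_eq_one_right hw0.2.1, hw0.2.2 y (Subgroup.mem_inf.mp hy).1]
    have hcfix : (y * w0) • c = c := by
      rw [← hyw]
      exact pt_smul hH (Subgroup.mem_inf.mp hu).2
    let z : zc hH e := ⟨w0, hw0⟩
    obtain ⟨-, w, hw, hwc⟩ := exists_zc_line hH twoClosedTrans (hhe z) (e0_sq hH hf hP0 (hmem z).1) (hmem z).2.2
      (hmem z).2.1 hcfix hce
    exact ⟨(z, ⟨w, hw⟩), Subtype.ext hwc⟩
  · rw [Nat.card_prod, pow_two]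

end CfsgLib.BNRankOne
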