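import Cfsg.Agent.Lib.BNRankOne.Kernel
import Cfsg.Agent.Lib.SuzukiRankOne.TransferHom
import Cfsg.Agent.Lib.Bender.ConsSimple

/-!
No involution fixes two points: the transfer into `P / A` would otherwise have a proper kernel.
-/

set_option autoImplicit false
set_option linter.unusedSectionVars false
set_option linter.style.haveILetI false

namespace CfsgLib.BNRankOne

open MulAction

universe u v

section Elementary

variable {G : Type u} {Ω : Type v} [Group G] [MulAction G Ω] {e : Ω} {P : Subgroup G}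

theorem zP (hH : Hyp G Ω e P) {z b : G} (hz : z ∈ zc hH e) (hb : b ∈ P) : z * b = b * z :=
  hz.2.2 b ((pt_self hH).ge hb)

theorem conj_zP (hH : Hyp G Ω e P) : ∀ b ∈ P, ∀ t ∈ zc hH e, b * t * b⁻¹ ∈ zc hH e := fun b hb t ht => by
  rw [← zP hH ht hb, mul_inv_cancel_right]
  exact ht

/-- The elements of `P` whose commutator with `y` lies in `T`. -/
def comSub (P T : Subgroup G) (hT : ∀ b ∈ P, ∀ t ∈ T, b * t * b⁻¹ ∈ T) (y : G) : Subgroup G where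
  carrier := {b | b ∈ P ∧ b * y * b⁻¹ * y⁻¹ ∈ T}
  one_mem' := ⟨one_mem _, by rw [one_mul, inv_one, mul_one, mul_inv_cancel]; exact one_mem _⟩
  mul_mem' := fun {b b'} hb hb' => ⟨mul_mem hb.1 hb'.1, by
    rw [show b * b' * y * (b * b')⁻¹ * y⁻¹ = b * (b' * y * b'⁻¹ * y⁻¹) * b⁻¹ * (b * y * b⁻¹ * y⁻¹) by group]
    exact mul_mem (hT b hb.1 _ hb'.2) hb.2⟩
  inv_mem' := fun {b} hb => ⟨inv_mem hb.1, by
    rw [show b⁻¹ * y * b⁻¹⁻¹ * y⁻¹ = b⁻¹ * (b * y * b⁻¹ * y⁻¹)⁻¹ * b⁻¹⁻¹ by group]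
    exact hT _ (inv_mem hb.1) _ (inv_mem hb.2)⟩

/-- The elements of the kernel central in `P` modulo the central involutions at `e`. -/
noncomputable def aA (hH : Hyp G Ω e P) (f : Ω) : Subgroup G where
  carrier := {a | a ∈ nN hH f ∧ ∀ b ∈ P, b * a * b⁻¹ * a⁻¹ ∈ zc hH e}
  one_mem' := ⟨one_mem _, fun b _ => by rw [mul_one, mul_inv_cancel, inv_one, one_mul]; exact one_mem _⟩
  mul_mem' := fun {a a'} ha ha' => ⟨mul_mem ha.1 ha'.1, fun b hb => by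
    rw [show b * (a * a') * b⁻¹ * (a * a')⁻¹ = b * a * b⁻¹ * a⁻¹ * (a * (b * a' * b⁻¹ * a'⁻¹) * a⁻¹) by group]
    exact mul_mem (ha.2 b hb) (conj_zP hH a ha.1.1 _ (ha'.2 b hb))⟩
  inv_mem' := fun {a} ha => ⟨inv_mem ha.1, fun b hb => by
    rw [show b * a⁻¹ * b⁻¹ * a⁻¹⁻¹ = a⁻¹ * (b * a * b⁻¹ * a⁻¹)⁻¹ * a⁻¹⁻¹ by group]
    exact conj_zP hH _ (inv_mem ha.1.1) _ (inv_mem (ha.2 b hb))⟩

theorem aA_le_P (hH : Hyp G Ω e P) (f : Ω) : aA hH f ≤ P := fun _ ha => ha.1.1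

theorem zc_le_aA (hH : Hyp G Ω e P) (f : Ω) : zc hH e ≤ aA hH f := fun z hz =>
  ⟨e0_le_nN hH f (zc_le_e0 hH f hz), fun b hb => by
    rw [← zP hH hz hb, mul_inv_cancel_right, mul_inv_cancel]
    exact one_mem _⟩

theorem conj_aA (hH : Hyp G Ω e P) {f : Ω} : ∀ b ∈ P, ∀ a ∈ aA hH f, b * a * b⁻¹ ∈ aA hH f := fun b hb a ha => by
  rw [show b * a * b⁻¹ = b * a * b⁻¹ * a⁻¹ * a by group]
  exact mul_mem (zc_le_aA hH f (ha.2 b hb)) ha

/-- Some power of a 2-element is an involution modulo a subgroup. -/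
theorem exists_sq_mem {T : Subgroup G} {a : G} (ha : a ∉ T) (h : IsTwo a) :
    ∃ m : ℕ, a ^ m ∉ T ∧ a ^ m * a ^ m ∈ T := by
  obtain ⟨k, hk⟩ := h
  induction k generalizing a with
  | zero => rw [pow_zero, pow_one] at hk; exact absurd (hk ▸ one_mem T) ha
  | succ k ih =>
    by_cases h2 : a * a ∈ T
    · exact ⟨1, by rwa [pow_one], by rwa [pow_one]⟩
    · obtain ⟨m, h1, h3⟩ := ih (a := a * a) h2 (by rw [← pow_two, ← pow_mul, ← pow_succ', hk])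
      rw [show (a * a) ^ m = a ^ (2 * m) by rw [pow_mul, pow_two]] at h1 h3
      exact ⟨2 * m, h1, h3⟩

end Elementary

variable {G : Type u} {Ω : Type v} [Group G] [MulAction G Ω] {e : Ω} {P : Subgroup G}
  [Finite G] [FaithfulSMul G Ω] [IsSimpleGroup G] (hH : Hyp G Ω e P) {f : Ω} (hf : f ≠ e)
  (hP0 : p0 hH f ≠ ⊥) {τ : G} (hτ : Torus hH f τ)

include hH hf hP0

/-- Commuting modulo the central involutions with an element of `P₀` forces an element of `P` into the kernel. -/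
theorem mem_nN_of_com {y : G} (hy : y ∈ p0 hH f) (hy1 : y ≠ 1) (hN : ∀ x ∈ nN hH f, x * y * x⁻¹ * y⁻¹ ∈ zc hH e)
    {b : G} (hb : b ∈ P) (hc : b * y * b⁻¹ * y⁻¹ ∈ zc hH e) : b ∈ nN hH f := by
  classical
  set M := comSub P (zc hH e) (conj_zP hH) y
  have hNM : nN hH f ≤ M := fun x hx => ⟨hx.1, hN x hx⟩
  have hEM : e0 hH f ≤ M := (e0_le_nN hH f).trans hNM
  have hidx : Nat.card (↥M ⧸ (e0 hH f).subgroupOf M) ≤ Nat.card (zc hH e) := by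
    refine Nat.card_le_card_of_injective
      (fun c => (⟨(c.out : G) * y * (c.out : G)⁻¹ * y⁻¹, (c.out).2.2⟩ : zc hH e)) fun c c' h => ?_
    have h1 : (c.out : G) * y * (c.out : G)⁻¹ = (c'.out : G) * y * (c'.out : G)⁻¹ :=
      mul_right_cancel (congrArg Subtype.val h)
    rw [← c.out_eq', ← c'.out_eq']
    refine QuotientGroup.eq.mpr (Subgroup.mem_subgroupOf.mpr
      (cent_p0 hH hf hP0 hy hy1 (c.out⁻¹ * c'.out).2.1 ?_))
    show (c.out : G)⁻¹ * c'.out * y = y * ((c.out : G)⁻¹ * c'.out)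
    calc (c.out : G)⁻¹ * c'.out * y = (c.out : G)⁻¹ * ((c'.out : G) * y * (c'.out : G)⁻¹) * c'.out := by group
      _ = (c.out : G)⁻¹ * ((c.out : G) * y * (c.out : G)⁻¹) * c'.out := by rw [h1]
      _ = y * ((c.out : G)⁻¹ * c'.out) := by group
  have hcard : Nat.card M ≤ Nat.card (nN hH f) := by
    rw [← ((e0 hH f).subgroupOf M).card_mul_index, Subgroup.index_eq_card,
      Nat.card_congr (Subgroup.subgroupOfEquivOfLe hEM).toEquiv, card_nN hH hf hP0, card_e0 hH hf]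
    calc Nat.card (zc hH e) * Nat.card (p0 hH f) * Nat.card (↥M ⧸ (e0 hH f).subgroupOf M)
        ≤ Nat.card (zc hH e) * Nat.card (p0 hH f) * Nat.card (zc hH e) := Nat.mul_le_mul_left _ hidx
      _ = _ := by ring
  rw [Subgroup.eq_of_le_of_card_ge hNM hcard]
  exact ⟨hb, hc⟩

include hτ

/-- Squares in the kernel are central involutions. -/
theorem sq_nN {a : G} (ha : a ∈ nN hH f) : a * a ∈ zc hH e := by
  have hsq : ∀ x ∈ e0 hH f, x * x ∈ zc hH e := fun x hx => by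
    rw [e0_sq hH hf hP0 hx]; exact one_mem _
  by_cases hE : a ∈ e0 hH f
  · exact hsq a hE
  have htwo : IsTwo a := ((mem_pt hH).mp ((pt_self hH).ge ha.1)).2
  obtain ⟨m, hm, hm2⟩ := exists_sq_mem hE htwo
  have hmN : a ^ m ∈ nN hH f := pow_mem ha m
  obtain ⟨k, hk⟩ := trans_N hH hf hP0 hτ hmN ha hm hE
  set c := τ ^ k * a ^ m * (τ ^ k)⁻¹ with hc
  have hcc : c * c ∈ e0 hH f := by
    have h1 := tau_e0 hH hτ k hm2
    rwa [← conj_mul] at h1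
  have hae : a * a ∈ e0 hH f := by
    rw [show a * a = c * c * (c⁻¹ * (c⁻¹ * a) * c⁻¹⁻¹) * (c⁻¹ * a) by group]
    exact mul_mem (mul_mem hcc (conj_e0_nN hH (inv_mem (tau_nN hH hτ k hmN)) hk)) hk
  obtain ⟨z, hz, hzy⟩ := hae
  by_cases hy1 : z⁻¹ * (a * a) = 1
  · rw [← inv_mul_eq_one.mp hy1]; exact hz
  exfalso
  refine hE (cent_p0 hH hf hP0 hzy hy1 ha.1 ?_)
  rw [← mul_assoc, ← zP hH (inv_mem hz) ha.1, mul_assoc, mul_assoc, mul_assoc]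

/-- Commutators in the kernel are central involutions. -/
theorem comm_nN {a b : G} (ha : a ∈ nN hH f) (hb : b ∈ nN hH f) : a * b * a⁻¹ * b⁻¹ ∈ zc hH e := by
  have h1 := sq_nN hH hf hP0 hτ (mul_mem ha hb)
  have h2 := inv_mem (sq_nN hH hf hP0 hτ ha)
  have h3 := inv_mem (sq_nN hH hf hP0 hτ hb)
  have key : a * b * a⁻¹ * b⁻¹ = a * b * (a * b) * (b⁻¹ * (a * a)⁻¹ * b⁻¹⁻¹ * (b * b)⁻¹) := by group
  rw [key]
  exact mul_mem h1 (mul_mem (conj_zP hH _ (inv_mem hb.1) _ h2) h3)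

theorem mem_nN_of_com' {y : G} (hy : y ∈ p0 hH f) (hy1 : y ≠ 1) {b : G} (hb : b ∈ P)
    (hc : b * y * b⁻¹ * y⁻¹ ∈ zc hH e) : b ∈ nN hH f :=
  mem_nN_of_com hH hf hP0 hy hy1
    (fun x hx => comm_nN hH hf hP0 hτ hx (e0_le_nN hH f (p0_le_e0 hH f hy))) hb hc

/-- `A` meets `E` in the central involutions. -/
theorem aA_inf_e0 {x : G} (hx : x ∈ aA hH f) (hE : x ∈ e0 hH f) : x ∈ zc hH e := by
  obtain ⟨z, hz, hzy⟩ := hE
  by_cases hy1 : z⁻¹ * x = 1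
  · rw [← inv_mul_eq_one.mp hy1]; exact hz
  exfalso
  have hyA : z⁻¹ * x ∈ aA hH f := mul_mem (inv_mem (zc_le_aA hH f hz)) hx
  obtain ⟨b, hb, hbN⟩ := exists_not_mem_nN hH hf hP0
  exact hbN (mem_nN_of_com' hH hf hP0 hτ hzy hy1 hb (hyA.2 b hb))

theorem tau_aA (k : ℕ) {a : G} (ha : a ∈ aA hH f) : τ ^ k * a * (τ ^ k)⁻¹ ∈ aA hH f := by
  refine ⟨tau_nN hH hτ k ha.1, fun b hb => ?_⟩
  obtain ⟨j, hj⟩ := exists_pow_inv τ k
  have hb' := tau_P hH hτ j hb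
  rw [hj, inv_inv] at hb'
  have h1 := tau_zc hH hτ k (ha.2 _ hb')
  rwa [show τ ^ k * ((τ ^ k)⁻¹ * b * τ ^ k * a * ((τ ^ k)⁻¹ * b * τ ^ k)⁻¹ * a⁻¹) * (τ ^ k)⁻¹ =
    b * (τ ^ k * a * (τ ^ k)⁻¹) * b⁻¹ * (τ ^ k * a * (τ ^ k)⁻¹)⁻¹ by group] at h1

/-- `A` is not inside `E`. -/
theorem exists_aA_not_e0 : ∃ a ∈ aA hH f, a ∉ e0 hH f := by
  classical
  haveI := Fact.mk Nat.prime_two
  set Z' := (zc hH e).subgroupOf P with hZ'
  haveI : Z'.Normal := ⟨fun z hz b => Subgroup.mem_subgroupOf.mpr (conj_zP hH _ b.2 _ (Subgroup.mem_subgroupOf.mp hz))⟩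
  haveI : ((nN hH f).subgroupOf P).Normal :=
    ⟨fun x hx b => Subgroup.mem_subgroupOf.mpr (conj_nN hH hf hP0 hτ b.2 (Subgroup.mem_subgroupOf.mp hx))⟩
  set M := ((nN hH f).subgroupOf P).map (QuotientGroup.mk' Z') with hM
  haveI : M.Normal := Subgroup.Normal.map inferInstance _ (QuotientGroup.mk'_surjective _)
  have hQ : IsPGroup 2 (↥P ⧸ Z') := hH.two_group.to_quotient Z'
  obtain ⟨n, hn, hnZ⟩ : ∃ n ∈ nN hH f, n ∉ zc hH e := by
    by_contra hall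
    push Not at hall
    obtain ⟨y, hy, -, hy1⟩ := exists_invol hH hP0
    exact zc_moves hH (hall y (e0_le_nN hH f (p0_le_e0 hH f hy))) hy1 hf (pt_smul hH (Subgroup.mem_inf.mp hy).2)
  haveI : Nontrivial M := ⟨⟨_, ⟨⟨n, hn.1⟩, Subgroup.mem_subgroupOf.mpr hn, rfl⟩⟩, 1, fun h => hnZ
    (Subgroup.mem_subgroupOf.mp ((QuotientGroup.eq_one_iff _).mp (congrArg Subtype.val h)))⟩
  obtain ⟨i, hi0, hi⟩ := (hQ.to_subgroup M).nontrivial_iff_card.mp inferInstance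
  obtain ⟨⟨_, ⟨⟨a, haP⟩, haN, rfl⟩⟩, hfix, hne⟩ :=
    (hQ.of_equiv ConjAct.toConjAct).exists_fixed_point_of_prime_dvd_card_of_fixed_point M
      (by rw [hi]; exact dvd_pow_self 2 (by omega)) (a := (1 : M)) (fun g => smul_one g)
  have haA : a ∈ aA hH f := by
    refine ⟨Subgroup.mem_subgroupOf.mp haN, fun b hb => ?_⟩
    have h1 := congrArg Subtype.val (hfix (ConjAct.toConjAct (QuotientGroup.mk' Z' ⟨b, hb⟩)))
    rw [ConjAct.Subgroup.val_conj_smul, ConjAct.toConjAct_smul, ← map_inv, ← map_mul, ← map_mul] at h1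
    have h2 : (b * a * b⁻¹)⁻¹ * a ∈ zc hH e := Subgroup.mem_subgroupOf.mp (QuotientGroup.eq.mp h1)
    rw [show b * a * b⁻¹ * a⁻¹ = a * ((b * a * b⁻¹)⁻¹ * a)⁻¹ * a⁻¹ by group]
    exact conj_zP hH a haP _ (inv_mem h2)
  refine ⟨a, haA, fun hE => hne (Subtype.ext ?_)⟩
  exact ((QuotientGroup.eq_one_iff _).mpr (Subgroup.mem_subgroupOf.mpr (aA_inf_e0 hH hf hP0 hτ haA hE))).symm

/-- The kernel is `A P₀`. -/
theorem nN_split {n : G} (hn : n ∈ nN hH f) : ∃ a ∈ aA hH f, a⁻¹ * n ∈ p0 hH f := by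
  by_cases hE : n ∈ e0 hH f
  · obtain ⟨z, hz, hzy⟩ := hE
    exact ⟨z, zc_le_aA hH f hz, hzy⟩
  obtain ⟨a, ha, haE⟩ := exists_aA_not_e0 hH hf hP0 hτ
  obtain ⟨k, hk⟩ := trans_N hH hf hP0 hτ ha.1 hn haE hE
  obtain ⟨z, hz, hzy⟩ := hk
  refine ⟨τ ^ k * a * (τ ^ k)⁻¹ * z, mul_mem (tau_aA hH hf hP0 hτ k ha) (zc_le_aA hH f hz), ?_⟩
  rw [mul_inv_rev, mul_assoc]
  exact hzy

/-- `P` centralises `P₀` modulo `A`. -/
theorem com_aA {b y : G} (hb : b ∈ P) (hy : y ∈ p0 hH f) : b * y * b⁻¹ * y⁻¹ ∈ aA hH f := by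
  set K := comSub P (aA hH f) (conj_aA hH) y
  have hyP : y ∈ P := (pt_self hH).le (Subgroup.mem_inf.mp hy).1
  have hNK : nN hH f ≤ K := fun n hn => by
    obtain ⟨a, ha, hu⟩ := nN_split hH hf hP0 hτ hn
    refine ⟨hn.1, ?_⟩
    rw [show n * y * n⁻¹ * y⁻¹ = a * ((a⁻¹ * n) * y) * (a⁻¹ * n)⁻¹ * a⁻¹ * y⁻¹ by group,
      p0_comm hH hf hP0 hu hy, show a * (y * (a⁻¹ * n)) * (a⁻¹ * n)⁻¹ * a⁻¹ * y⁻¹ = a * (y * a⁻¹ * y⁻¹) by group]
    exact mul_mem ha (conj_aA hH y hyP _ (inv_mem ha))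
  have htau : ∀ (k : ℕ), ∀ x ∈ K, τ ^ k * x * (τ ^ k)⁻¹ ∈ K := fun k x hx => by
    refine ⟨tau_P hH hτ k hx.1, ?_⟩
    have h1 := tau_aA hH hf hP0 hτ k hx.2
    rwa [show τ ^ k * (x * y * x⁻¹ * y⁻¹) * (τ ^ k)⁻¹ =
      τ ^ k * x * (τ ^ k)⁻¹ * (τ ^ k * y * (τ ^ k)⁻¹) * (τ ^ k * x * (τ ^ k)⁻¹)⁻¹ *
        (τ ^ k * y * (τ ^ k)⁻¹)⁻¹ by group, tau_p0 hH hτ k hy, mul_inv_cancel_right] at h1
  -- an element of `K` outside the kernel
  obtain ⟨b0, hb0, hb0N⟩ := exists_not_mem_nN hH hf hP0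
  obtain ⟨z, hz, hz1⟩ := exists_zc hH e
  obtain ⟨z', hz', hz1', hzz⟩ : ∃ z' ∈ zc hH e, z' ≠ 1 ∧ z' ≠ z := by
    by_contra hno
    push Not at hno
    have h1 : Nat.card (zc hH e) ≤ Nat.card Bool :=
      Nat.card_le_card_of_surjective (fun i : Bool => if i then (⟨z, hz⟩ : zc hH e) else 1) fun x => by
        by_cases hx : (x : G) = 1
        · exact ⟨false, Subtype.ext hx.symm⟩
        · exact ⟨true, Subtype.ext (hno x x.2 hx).symm⟩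
    rw [Nat.card_eq_fintype_card (α := Bool), Fintype.card_bool] at h1
    have := four_le_card_zc hH e
    omega
  obtain ⟨k0, hk0⟩ := hτ.trans z hz hz1 z' hz' hz1'
  have hk0z : ¬ τ ^ k0 * z = z * τ ^ k0 := fun h => hzz (by rw [← hk0, h, mul_inv_cancel_right])
  set b' := τ ^ k0 * b0 * (τ ^ k0)⁻¹ with hb'
  have hb'P : b' ∈ P := tau_P hH hτ k0 hb0
  set d := b0⁻¹ * b' with hd
  have hdK : d ∈ K := by
    obtain ⟨a, ha, hu⟩ := nN_split hH hf hP0 hτ (n := b0 * y * b0⁻¹ * y⁻¹)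
      (mul_mem (conj_nN hH hf hP0 hτ hb0 (e0_le_nN hH f (p0_le_e0 hH f hy)))
        (inv_mem (e0_le_nN hH f (p0_le_e0 hH f hy))))
    set u := a⁻¹ * (b0 * y * b0⁻¹ * y⁻¹) with hudef
    have hcb : b0 * y * b0⁻¹ * y⁻¹ = a * u := (mul_inv_cancel_left a _).symm
    refine ⟨mul_mem (inv_mem hb0) hb'P, ?_⟩
    have h2 : b' * y * b'⁻¹ * y⁻¹ = τ ^ k0 * (b0 * y * b0⁻¹ * y⁻¹) * (τ ^ k0)⁻¹ := by
      rw [show τ ^ k0 * (b0 * y * b0⁻¹ * y⁻¹) * (τ ^ k0)⁻¹ =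
        b' * (τ ^ k0 * y * (τ ^ k0)⁻¹) * b'⁻¹ * (τ ^ k0 * y * (τ ^ k0)⁻¹)⁻¹ by rw [hb']; group,
        tau_p0 hH hτ k0 hy, mul_inv_cancel_right]
    have h3 : (b' * y * b'⁻¹ * y⁻¹) * (b0 * y * b0⁻¹ * y⁻¹)⁻¹ ∈ aA hH f := by
      rw [h2, hcb, show τ ^ k0 * (a * u) * (τ ^ k0)⁻¹ * (a * u)⁻¹ =
        τ ^ k0 * a * (τ ^ k0)⁻¹ * (τ ^ k0 * u * (τ ^ k0)⁻¹) * u⁻¹ * a⁻¹ by group, tau_p0 hH hτ k0 hu]
      simp only [mul_inv_cancel_right]
      exact mul_mem (tau_aA hH hf hP0 hτ k0 ha) (inv_mem ha)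
    rw [show d * y * d⁻¹ * y⁻¹ = b0⁻¹ * ((b' * y * b'⁻¹ * y⁻¹) * (b0 * y * b0⁻¹ * y⁻¹)⁻¹) * b0⁻¹⁻¹ by
      rw [hd]; group]
    exact conj_aA hH _ (inv_mem hb0) _ h3
  have hdN : d ∉ nN hH f := by
    intro h
    have hcl : e0 hH (τ ^ k0 • b0 • f) = e0 hH (b0 • f) := by
      have h1 := e0_congr hH (p_e hH hb0) h.2
      rwa [← mul_smul, hd, mul_inv_cancel_left, hb', mul_smul, mul_smul,
        inv_smul_eq_iff.mpr (tau_f hH hτ k0).symm] at h1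
    have hh := ne_e hH hf (p_e hH hb0)
    obtain ⟨l, -, hl⟩ := card_zc_pow hH hf
    refine hk0z (cent_of_inv hH hf hP0 hτ k0 (S := fun c => c ≠ e ∧ e0 hH c = e0 hH (b0 • f))
      (fun c hc => ⟨ne_e hH hc.1 (tau_e hH hτ _), by rw [e0_congr hH (tau_e hH hτ _) hc.2, hcl]⟩)
      (fun hc => hc.1 rfl) (fun hc => hb0N ⟨hb0, hc.2.symm⟩) (i := l * 2) ?_ hz)
    rw [card_class hH hh (p0_ne_bot hH hf hP0 hh), hl, pow_mul]
  suffices h : b ∈ K from h.2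
  by_cases hbN : b ∈ nN hH f
  · exact hNK hbN
  obtain ⟨k, hk⟩ := trans_P hH hf hP0 hτ hdK.1 hb hdN hbN
  rw [← mul_inv_cancel_left (τ ^ k * d * (τ ^ k)⁻¹) b]
  exact mul_mem (htau k d hdK) (hNK hk)

/-- Squares of `P` lie in `A`. -/
theorem sq_P {b : G} (hb : b ∈ P) : b * b ∈ aA hH f := by
  have hsqA : ∀ n ∈ nN hH f, n * n ∈ aA hH f := fun n hn => zc_le_aA hH f (sq_nN hH hf hP0 hτ hn)
  by_cases hbN : b ∈ nN hH f
  · exact hsqA b hbN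
  obtain ⟨m, hm, hm2⟩ := exists_sq_mem hbN ((mem_pt hH).mp ((pt_self hH).ge hb)).2
  obtain ⟨k, hk⟩ := trans_P hH hf hP0 hτ (pow_mem hb m) hb hm hbN
  set c := τ ^ k * b ^ m * (τ ^ k)⁻¹ with hc
  have hbb : b * b ∈ nN hH f := by
    have hcc : c * c ∈ nN hH f := by
      have h1 := tau_nN hH hτ k hm2
      rwa [← conj_mul] at h1
    rw [show b * b = c * c * (c⁻¹ * (c⁻¹ * b) * c⁻¹⁻¹) * (c⁻¹ * b) by group]
    exact mul_mem (mul_mem hcc (conj_nN hH hf hP0 hτ (inv_mem (tau_P hH hτ k (pow_mem hb m))) hk)) hk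
  obtain ⟨a, ha, hu⟩ := nN_split hH hf hP0 hτ hbb
  by_cases hu1 : a⁻¹ * (b * b) = 1
  · rwa [← inv_mul_eq_one.mp hu1]
  refine absurd (mem_nN_of_com' hH hf hP0 hτ hu hu1 hb ?_) hbN
  rw [show b * (a⁻¹ * (b * b)) * b⁻¹ * (a⁻¹ * (b * b))⁻¹ = b * a⁻¹ * b⁻¹ * a⁻¹⁻¹ by group]
  exact (inv_mem ha).2 b hb

/-- `P₀` has order two. -/
theorem p0_two {y y' : G} (hy : y ∈ p0 hH f) (hy1 : y ≠ 1) (hy' : y' ∈ p0 hH f) (hy1' : y' ≠ 1) : y = y' := by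
  obtain ⟨b, hb, hbN⟩ := exists_not_mem_nN hH hf hP0
  set c := b * y * b⁻¹ * y⁻¹ with hc
  have hcA : c ∈ aA hH f := com_aA hH hf hP0 hτ hb hy
  have hcE : c ∉ e0 hH f := fun h =>
    hbN (mem_nN_of_com' hH hf hP0 hτ hy hy1 hb (aA_inf_e0 hH hf hP0 hτ hcA h))
  have hinv : ∀ v ∈ p0 hH f, v ≠ 1 → v * c * v⁻¹ = c⁻¹ := by
    intro v hv hv1
    have hvP : v ∈ P := (pt_self hH).le (Subgroup.mem_inf.mp hv).1
    set d := b * v * b⁻¹ * v⁻¹ with hd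
    have hdA : d ∈ aA hH f := com_aA hH hf hP0 hτ hb hv
    have hdE : d ∉ e0 hH f := fun h =>
      hbN (mem_nN_of_com' hH hf hP0 hτ hv hv1 hb (aA_inf_e0 hH hf hP0 hτ hdA h))
    obtain ⟨k, hk⟩ := trans_N hH hf hP0 hτ hdA.1 hcA.1 hdE hcE
    set g := τ ^ k * d * (τ ^ k)⁻¹ with hg
    have hgA : g ∈ aA hH f := tau_aA hH hf hP0 hτ k hdA
    have hw : g⁻¹ * c ∈ zc hH e := aA_inf_e0 hH hf hP0 hτ (mul_mem (inv_mem hgA) hcA) hk
    have hv2 : v⁻¹ = v := inv_eq_of_mul_eq_one_right (p0_sq hH hf hP0 hv)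
    have hvd : v * d * v⁻¹ = d⁻¹ := by
      rw [hd]
      calc v * (b * v * b⁻¹ * v⁻¹) * v⁻¹ = v * (b * v * b⁻¹) * (v * v)⁻¹ := by group
        _ = v * (b * v⁻¹ * b⁻¹) := by rw [p0_sq hH hf hP0 hv, inv_one, mul_one, hv2]
        _ = (b * v * b⁻¹ * v⁻¹)⁻¹ := by group
    have hvg : v * g * v⁻¹ = g⁻¹ := by
      have hcom := tau_p0 hH hτ k hv
      rw [hg, show v * (τ ^ k * d * (τ ^ k)⁻¹) * v⁻¹ = v * τ ^ k * d * (v * τ ^ k)⁻¹ by group, ← hcom,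
        show τ ^ k * v * d * (τ ^ k * v)⁻¹ = τ ^ k * (v * d * v⁻¹) * (τ ^ k)⁻¹ by group, hvd]
      group
    have hwc : ∀ x ∈ P, g⁻¹ * c * x = x * (g⁻¹ * c) := fun x hx => zP hH hw hx
    calc v * c * v⁻¹ = v * g * v⁻¹ * (v * (g⁻¹ * c) * v⁻¹) := by group
      _ = g⁻¹ * (g⁻¹ * c) := by rw [hvg, ← hwc v hvP, mul_inv_cancel_right]
      _ = g⁻¹ * (g⁻¹ * c)⁻¹ := by rw [inv_eq_of_mul_eq_one_right hw.2.1]
      _ = (g⁻¹ * c)⁻¹ * g⁻¹ := by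
        rw [show (g⁻¹ * c)⁻¹ * g⁻¹ = (g * (g⁻¹ * c))⁻¹ by group, ← hwc g hgA.1.1]; group
      _ = c⁻¹ := by group
  by_contra hne
  have hne' : y * y' ≠ 1 := fun h => hne (by
    rw [← inv_eq_of_mul_eq_one_right h, inv_eq_of_mul_eq_one_right (p0_sq hH hf hP0 hy)])
  refine hcE (cent_p0 hH hf hP0 (mul_mem hy hy') hne' hcA.1.1 ?_)
  have h1 : y * y' * c * (y * y')⁻¹ = c := by
    calc y * y' * c * (y * y')⁻¹ = y * (y' * c * y'⁻¹) * y⁻¹ := by group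
      _ = y * c⁻¹ * y⁻¹ := by rw [hinv y' hy' hy1']
      _ = (y * c * y⁻¹)⁻¹ := by group
      _ = c := by rw [hinv y hy hy1, inv_inv]
  exact (mul_inv_eq_iff_eq_mul.mp h1).symm

omit hP0 hτ in
theorem odd_index : Odd P.index := by
  classical
  haveI := finite_points hH
  haveI := Fact.mk Nat.prime_two
  obtain ⟨S, hS⟩ := hH.two_group.exists_le_sylow
  obtain ⟨c, hc⟩ : ∃ c : Ω, ∀ x ∈ (S : Subgroup G), x • c = c := by
    by_contra hno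
    push Not at hno
    have h1 := S.isPGroup'.card_modEq_card_fixedPoints Ω
    haveI : IsEmpty (fixedPoints (S : Subgroup G) Ω) := ⟨fun c => by
      obtain ⟨x, hx, hne⟩ := hno c.1
      exact hne (c.2 ⟨x, hx⟩)⟩
    rw [Nat.card_of_isEmpty (α := fixedPoints (S : Subgroup G) Ω)] at h1
    have h2 : Nat.card Ω % 2 = 1 := Nat.odd_iff.mp hH.odd_points
    unfold Nat.ModEq at h1
    omega
  have hle : (S : Subgroup G) ≤ pt hH c := fun x hx => (mem_pt hH).mpr ⟨hc x hx, by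
    obtain ⟨k, hk⟩ := S.isPGroup' ⟨x, hx⟩
    exact ⟨k, by simpa using congrArg Subtype.val hk⟩⟩
  have hcard : Nat.card (pt hH c) = Nat.card P :=
    Subgroup.card_map_of_injective (MulAut.conj _).injective
  rw [Subgroup.eq_of_le_of_card_ge hS (hcard ▸ Subgroup.card_le_of_le hle)]
  exact Nat.odd_iff.mpr (by have := S.not_dvd_index; omega)

omit hP0 hτ in
/-- An involution fixes at most one point. -/
theorem p0_eq_bot : p0 hH f = ⊥ := by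
  classical
  by_contra hP0
  obtain ⟨τ, hτ⟩ := exists_torus hH hf hP0
  obtain ⟨y, hy, hy2, hy1⟩ := exists_invol hH hP0
  have hyP : y ∈ P := (pt_self hH).le (Subgroup.mem_inf.mp hy).1
  set A' := (aA hH f).subgroupOf P with hA'
  haveI hAn : A'.Normal :=
    ⟨fun a ha b => Subgroup.mem_subgroupOf.mpr (conj_aA hH _ b.2 _ (Subgroup.mem_subgroupOf.mp ha))⟩
  have hexp : ∀ x : ↥P ⧸ A', x * x = 1 := fun x => by
    obtain ⟨b, rfl⟩ := QuotientGroup.mk'_surjective A' x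
    rw [← map_mul]
    exact (QuotientGroup.eq_one_iff _).mpr (Subgroup.mem_subgroupOf.mpr (sq_P hH hf hP0 hτ b.2))
  letI : CommGroup (↥P ⧸ A') :=
    { (inferInstance : Group (↥P ⧸ A')) with
      mul_comm := fun a b => by
        have h1 := inv_eq_of_mul_eq_one_right (hexp (a * b))
        rw [mul_inv_rev, inv_eq_of_mul_eq_one_right (hexp a), inv_eq_of_mul_eq_one_right (hexp b)] at h1
        exact h1.symm }
  let θ : P →* ↥P ⧸ A' := QuotientGroup.mk' A'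
  have hfix : ∀ g : G, ∀ h : g⁻¹ * y * g ∈ P, θ ⟨g⁻¹ * y * g, h⟩ = θ ⟨y, hyP⟩ := by
    intro g hg
    set w := g⁻¹ * y * g with hw
    have hwfix : ∀ c : Ω, y • c = c → w • g⁻¹ • c = g⁻¹ • c := fun c hc => by
      rw [hw, mul_smul, mul_smul, smul_inv_smul, hc]
    obtain ⟨h, hhe, hwh⟩ : ∃ h, h ≠ e ∧ w • h = h := by
      by_cases h1 : g⁻¹ • e = e
      · exact ⟨g⁻¹ • f, fun h2 => hf (MulAction.injective g⁻¹ (h2.trans h1.symm)),
          hwfix f (pt_smul hH (Subgroup.mem_inf.mp hy).2)⟩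
      · exact ⟨g⁻¹ • e, h1, hwfix e (pt_smul hH (Subgroup.mem_inf.mp hy).1)⟩
    obtain ⟨b, hb, rfl⟩ := exists_P hH hf twoClosedTrans hhe
    have hwP : b⁻¹ * w * b ∈ P := mul_mem (mul_mem (inv_mem hb) hg) hb
    have hwy : b⁻¹ * w * b = y := by
      refine p0_two hH hf hP0 hτ (Subgroup.mem_inf.mpr ⟨(pt_self hH).ge hwP, (mem_pt hH).mpr
        ⟨by rw [mul_smul, mul_smul, hwh, inv_smul_smul], ((mem_pt hH).mp ((pt_self hH).ge hwP)).2⟩⟩)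
        (fun h1 => hy1 ?_) hy hy1
      have h2 : w = 1 := by
        calc w = b * (b⁻¹ * w * b) * b⁻¹ := by group
          _ = 1 := by rw [h1, mul_one, mul_inv_cancel]
      calc y = g * w * g⁻¹ := by rw [hw]; group
        _ = 1 := by rw [h2, mul_one, mul_inv_cancel]
    have he : (⟨w, hg⟩ : P) = ⟨b, hb⟩ * ⟨y, hyP⟩ * ⟨b, hb⟩⁻¹ := Subtype.ext (by
      show w = b * y * b⁻¹
      rw [← hwy]; group)
    rw [he, map_mul, map_mul, map_inv, mul_comm, inv_mul_cancel_left]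
  have hval := CfsgLib.SuzukiRankOne.transfer_eq_of_fixed θ Nat.prime_two (x := y) (by rw [pow_two, hy2])
    (α := θ ⟨y, hyP⟩) (by rw [pow_two, hexp]) hfix
  obtain ⟨j, hj⟩ := odd_index hH hf
  rw [hj, pow_succ, pow_mul, show θ ⟨y, hyP⟩ ^ 2 = 1 by rw [pow_two, hexp], one_pow, one_mul] at hval
  have hne : θ ⟨y, hyP⟩ ≠ 1 := fun h => by
    have h1 := Subgroup.mem_subgroupOf.mp ((QuotientGroup.eq_one_iff _).mp h)
    exact zc_moves hH (aA_inf_e0 hH hf hP0 hτ h1 (p0_le_e0 hH f hy)) hy1 hf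
      (pt_smul hH (Subgroup.mem_inf.mp hy).2)
  rcases (MonoidHom.transfer θ).normal_ker.eq_bot_or_eq_top with h | h
  · obtain ⟨a, b, hab⟩ := not_comm hH
    refine hab ((MonoidHom.ker_eq_bot_iff _).mp h ?_)
    rw [map_mul, map_mul, mul_comm]
  · exact hne (hval.symm.trans (MonoidHom.mem_ker.mp (h ▸ Subgroup.mem_top y)))

omit hf hP0 hτ in
theorem closed : Bender.TwoClosed.Closed G Ω e P := by
  classical
  haveI := finite_points hH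
  haveI := Fact.mk Nat.prime_two
  haveI : IsMultiplyPretransitive G Ω 2 := hH.two_trans
  refine ⟨⟨fun c d => ?_⟩, fun x hx => ?_, ?_, hH.le, hH.conj, hH.two_group, hH.two_mem⟩
  · obtain ⟨g₁, h₁⟩ := exists_to hH c
    obtain ⟨g₂, h₂⟩ := exists_to hH d
    exact ⟨g₂ * g₁⁻¹, by rw [mul_smul, inv_smul_eq_iff.mpr h₁.symm, h₂]⟩
  · have hp : IsPGroup 2 (Subgroup.zpowers x) := by
      refine IsPGroup.of_card (n := 1) ?_
      rw [Nat.card_zpowers, pow_one]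
      exact orderOf_eq_prime (by rw [pow_two, hx.2]) hx.1
    obtain ⟨c, hc⟩ : ∃ c : Ω, x • c = c := by
      have h1 := hp.card_modEq_card_fixedPoints Ω
      by_contra hno
      push Not at hno
      haveI : IsEmpty (fixedPoints (Subgroup.zpowers x) Ω) :=
        ⟨fun c => hno c.1 (c.2 ⟨_, Subgroup.mem_zpowers _⟩)⟩
      rw [Nat.card_of_isEmpty (α := fixedPoints (Subgroup.zpowers x) Ω)] at h1
      have h3 : Nat.card Ω % 2 = 1 := Nat.odd_iff.mp hH.odd_points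
      unfold Nat.ModEq at h1
      omega
    refine ⟨c, hc, fun d hd => ?_⟩
    by_contra hdc
    obtain ⟨b, hb⟩ := hH.nontriv
    obtain ⟨g, hgd, hgc⟩ := two_pt hH hdc hb
    have h2 : g * x * g⁻¹ ∈ p0 hH b := by
      have hgx : ∀ v w : Ω, g • v = w → x • v = v → (g * x * g⁻¹) • w = w := fun v w h1 h2 => by
        rw [← h1, mul_smul, mul_smul, inv_smul_smul, h2]
      have h3 := isTwo_of_mul_self (x := g * x * g⁻¹) (by rw [conj_mul, hx.2, mul_one, mul_inv_cancel])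
      exact Subgroup.mem_inf.mpr ⟨(mem_pt hH).mpr ⟨hgx c e hgc hc, h3⟩, (mem_pt hH).mpr ⟨hgx d b hgd hd, h3⟩⟩
    rw [p0_eq_bot hH hb] at h2
    exact hx.1 (conj_eq_one_iff.mp (Subgroup.mem_bot.mp h2))
  · obtain ⟨z, hz, hz1⟩ := exists_zc hH e
    obtain ⟨z', hz', hz1', hzz⟩ : ∃ z' ∈ zc hH e, z' ≠ 1 ∧ z' ≠ z := by
      by_contra hno
      push Not at hno
      have h1 : Nat.card (zc hH e) ≤ Nat.card Bool :=
        Nat.card_le_card_of_surjective (fun i : Bool => if i then (⟨z, hz⟩ : zc hH e) else 1) fun x => by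
          by_cases hx : (x : G) = 1
          · exact ⟨false, Subtype.ext hx.symm⟩
          · exact ⟨true, Subtype.ext (hno x x.2 hx).symm⟩
      rw [Nat.card_eq_fintype_card (α := Bool), Fintype.card_bool] at h1
      have := four_le_card_zc hH e
      omega
    exact ⟨z, z', hz1, hz1', hzz.symm, hz.2.1, hz'.2.1, hz.2.2 z' hz'.1⟩

end CfsgLib.BNRankOne
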