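import Cfsg.Agent.Lib.BNRankOne.Classes
import Mathlib.GroupTheory.Nilpotent

/-!
The kernel of the action of `P` on the classes of lines through `e`.
-/

set_option autoImplicit false
set_option linter.unusedSectionVars false
set_option linter.style.haveILetI false

namespace CfsgLib.BNRankOne

open MulAction

universe u v

section Elementary

variable {G : Type u} {Ω : Type v} [Group G] [MulAction G Ω] {e : Ω} {P : Subgroup G}

theorem p_e (hH : Hyp G Ω e P) {b : G} (hb : b ∈ P) : b • e = e := mem_stabilizer_iff.mp (hH.le hb)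

theorem mem_e0_smul (hH : Hyp G Ω e P) {b : G} (hb : b • e = e) {c : Ω} {x : G} :
    x ∈ e0 hH (b • c) ↔ b⁻¹ * x * b ∈ e0 hH c := by
  constructor <;> intro h
  · have h1 := conj_e0 hH (b := b⁻¹) (inv_smul_eq_iff.mpr hb.symm) h
    rwa [inv_smul_smul, inv_inv] at h1
  · have h1 := conj_e0 hH hb h
    rwa [show b * (b⁻¹ * x * b) * b⁻¹ = x by group] at h1

theorem e0_congr (hH : Hyp G Ω e P) {b : G} (hb : b • e = e) {c d : Ω} (h : e0 hH c = e0 hH d) :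
    e0 hH (b • c) = e0 hH (b • d) := by
  ext x
  rw [mem_e0_smul hH hb, mem_e0_smul hH hb, h]

/-- The elements of `P` fixing the class of the line through `f`. -/
noncomputable def nN (hH : Hyp G Ω e P) (f : Ω) : Subgroup G where
  carrier := {b | b ∈ P ∧ e0 hH (b • f) = e0 hH f}
  one_mem' := ⟨one_mem _, by rw [one_smul]⟩
  mul_mem' := fun {b b'} hb hb' => ⟨mul_mem hb.1 hb'.1, by rw [mul_smul, e0_congr hH (p_e hH hb.1) hb'.2, hb.2]⟩
  inv_mem' := fun {b} hb => ⟨inv_mem hb.1, by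
    have h := e0_congr hH (p_e hH (inv_mem hb.1)) hb.2
    rwa [inv_smul_smul, eq_comm] at h⟩

theorem mem_nN (hH : Hyp G Ω e P) {f : Ω} {b : G} : b ∈ nN hH f ↔ b ∈ P ∧ e0 hH (b • f) = e0 hH f := Iff.rfl

theorem e0_le_nN (hH : Hyp G Ω e P) (f : Ω) : e0 hH f ≤ nN hH f := fun x hx => ⟨e0_le hH f hx, by
  ext v
  rw [mem_e0_smul hH (p_e hH (e0_le hH f hx))]
  refine ⟨fun h => ?_, fun h => mul_mem (mul_mem (inv_mem hx) h) hx⟩
  have h1 := mul_mem (mul_mem hx h) (inv_mem hx)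
  rwa [show x * (x⁻¹ * v * x) * x⁻¹ = v by group] at h1⟩

/-- `E` is normal in the stabiliser of its class. -/
theorem conj_e0_nN (hH : Hyp G Ω e P) {f : Ω} {b x : G} (hb : b ∈ nN hH f) (hx : x ∈ e0 hH f) :
    b * x * b⁻¹ ∈ e0 hH f := by
  rw [← hb.2]
  exact conj_e0 hH (p_e hH hb.1) hx

theorem ne_e (hH : Hyp G Ω e P) {f : Ω} (hf : f ≠ e) {b : G} (hb : b • e = e) : b • f ≠ e := fun h =>
  hf (MulAction.injective b (h.trans hb.symm))

end Elementary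

variable {G : Type u} {Ω : Type v} [Group G] [MulAction G Ω] {e : Ω} {P : Subgroup G}
  [Finite G] [FaithfulSMul G Ω] [IsSimpleGroup G] (hH : Hyp G Ω e P) {f : Ω} (hf : f ≠ e)
  (hP0 : p0 hH f ≠ ⊥) {τ : G} (hτ : Torus hH f τ)

/-- The classes of lines through `e`. -/
abbrev Cls (hH : Hyp G Ω e P) : Type u := {E : Subgroup G // ∃ c : Ω, c ≠ e ∧ e0 hH c = E}

include hH hf hP0

theorem card_others : Nat.card {c : Ω // c ≠ e} = Nat.card (zc hH e) ^ 3 := by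
  obtain ⟨y, hy, hy2, hy1⟩ := exists_invol hH hP0
  exact (nfix_eq hH twoClosedTrans hf hy2 hy1 hf.symm (pt_smul hH (Subgroup.mem_inf.mp hy).1)
    (pt_smul hH (Subgroup.mem_inf.mp hy).2)).2

/-- There are `q` classes. -/
theorem card_cls : Nat.card (Cls hH) = Nat.card (zc hH e) := by
  classical
  haveI := finite_points hH
  letI := Fintype.ofFinite (Cls hH)
  have h1 : Nat.card {c : Ω // c ≠ e} = Nat.card (Cls hH) * Nat.card (zc hH e) ^ 2 := by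
    rw [Nat.card_congr (show {c : Ω // c ≠ e} ≃ Σ E : Cls hH, {c : Ω // c ≠ e ∧ e0 hH c = E.1} from
      { toFun := fun c => ⟨⟨e0 hH c.1, c.1, c.2, rfl⟩, c.1, c.2, rfl⟩
        invFun := fun q => ⟨q.2.1, q.2.2.1⟩
        left_inv := fun c => rfl
        right_inv := fun ⟨⟨E, hE⟩, c, hc, hcE⟩ => by
          change e0 hH c = E at hcE
          subst hcE
          rfl }), Nat.card_sigma,
      Nat.card_eq_fintype_card (α := Cls hH)]
    rw [Finset.sum_congr rfl (fun E _ => show Nat.card {c : Ω // c ≠ e ∧ e0 hH c = E.1} =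
      Nat.card (zc hH e) ^ 2 from ?_), Finset.sum_const, Finset.card_univ, smul_eq_mul]
    obtain ⟨h, hh, hE⟩ := E.2
    rw [← hE]
    exact card_class hH hh (p0_ne_bot hH hf hP0 hh)
  rw [card_others hH hf hP0, show Nat.card (zc hH e) ^ 3 = Nat.card (zc hH e) * Nat.card (zc hH e) ^ 2 by ring] at h1
  have h4 := four_le_card_zc hH e
  exact (Nat.eq_of_mul_eq_mul_right (pow_pos (by omega) 2) h1).symm

theorem exists_other_class : ∃ h, h ≠ e ∧ e0 hH h ≠ e0 hH f := by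
  by_contra hall
  push Not at hall
  haveI : Subsingleton (Cls hH) := ⟨fun ⟨E, c, hc, hE⟩ ⟨E', c', hc', hE'⟩ => Subtype.ext
    ((hE.symm.trans (hall c hc)).trans ((hall c' hc').symm.trans hE'))⟩
  have h1 := card_cls hH hf hP0
  have h2 : Nat.card (Cls hH) ≤ 1 := Finite.card_le_one_iff_subsingleton.mpr inferInstance
  have h4 := four_le_card_zc hH e
  omega

theorem exists_not_mem_nN : ∃ b ∈ P, b ∉ nN hH f := by
  obtain ⟨h, hh, hne⟩ := exists_other_class hH hf hP0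
  obtain ⟨b, hb, rfl⟩ := exists_P hH hf twoClosedTrans hh
  exact ⟨b, hb, fun hb' => hne hb'.2⟩

theorem card_nN : Nat.card (nN hH f) = Nat.card (zc hH e) ^ 2 * Nat.card (p0 hH f) := by
  classical
  rw [← card_class hH hf hP0, ← Nat.card_prod]
  choose g hgP hgf using fun c : {c : Ω // c ≠ e ∧ e0 hH c = e0 hH f} => exists_P hH hf twoClosedTrans c.2.1
  refine (Nat.card_eq_of_bijective (fun p : {c : Ω // c ≠ e ∧ e0 hH c = e0 hH f} × p0 hH f =>
    (⟨g p.1 * p.2, mul_mem ⟨hgP p.1, by rw [hgf]; exact p.1.2.2⟩ (e0_le_nN hH f (p0_le_e0 hH f p.2.2))⟩ :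
      nN hH f)) ⟨?_, ?_⟩).symm
  · rintro ⟨c, x⟩ ⟨c', x'⟩ h
    have h' : g c * x = g c' * x' := congrArg Subtype.val h
    have h1 : g c • f = g c' • f := by
      conv_lhs => rw [← pt_smul hH (Subgroup.mem_inf.mp x.2).2, ← mul_smul, h', mul_smul,
        pt_smul hH (Subgroup.mem_inf.mp x'.2).2]
    rw [hgf, hgf] at h1
    obtain rfl := Subtype.ext h1
    obtain rfl := Subtype.ext (mul_left_cancel h')
    rfl
  · rintro ⟨b, hb⟩
    let c : {c : Ω // c ≠ e ∧ e0 hH c = e0 hH f} := ⟨b • f, ne_e hH hf (p_e hH hb.1), hb.2⟩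
    have hmem : (g c)⁻¹ * b ∈ pt hH e := (pt_self hH).ge (mul_mem (inv_mem (hgP c)) hb.1)
    exact ⟨(c, ⟨_, Subgroup.mem_inf.mpr ⟨hmem, (mem_pt hH).mpr ⟨by rw [mul_smul, inv_smul_eq_iff, hgf],
      ((mem_pt hH).mp hmem).2⟩⟩⟩), Subtype.ext (mul_inv_cancel_left _ _)⟩

include hτ

omit hP0 hf in
theorem tau_P (k : ℕ) {b : G} (hb : b ∈ P) : τ ^ k * b * (τ ^ k)⁻¹ ∈ P :=
  hH.conj _ (tau_e hH hτ k) b hb

omit hP0 hf in
theorem tau_e0 (k : ℕ) {x : G} (hx : x ∈ e0 hH f) : τ ^ k * x * (τ ^ k)⁻¹ ∈ e0 hH f := by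
  have h := conj_e0 hH (tau_e hH hτ k) hx
  rwa [tau_f hH hτ k] at h

omit hP0 hf in
theorem tau_nN (k : ℕ) {b : G} (hb : b ∈ nN hH f) : τ ^ k * b * (τ ^ k)⁻¹ ∈ nN hH f := ⟨tau_P hH hτ k hb.1, by
  rw [mul_smul, mul_smul, inv_smul_eq_iff.mpr (tau_f hH hτ k).symm, e0_congr hH (tau_e hH hτ k) hb.2,
    tau_f hH hτ k]⟩

omit hP0 hf in
theorem tau_nN_iff (k : ℕ) {b : G} : τ ^ k * b * (τ ^ k)⁻¹ ∈ nN hH f ↔ b ∈ nN hH f := by
  refine ⟨fun h => ?_, tau_nN hH hτ k⟩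
  obtain ⟨j, hj⟩ := exists_pow_inv τ k
  have h1 := tau_nN hH hτ j h
  rwa [hj, inv_inv, show (τ ^ k)⁻¹ * (τ ^ k * b * (τ ^ k)⁻¹) * τ ^ k = b by group] at h1

/-- The powers of `τ` are transitive on the other classes. -/
theorem trans_class {h h' : Ω} (hh : h ≠ e) (hh' : h' ≠ e) (hne : e0 hH h ≠ e0 hH f)
    (hne' : e0 hH h' ≠ e0 hH f) : ∃ k, e0 hH (τ ^ k • h) = e0 hH h' := by
  let act : ℕ → Cls hH := fun k => ⟨_, τ ^ k • h, ne_e hH hh (tau_e hH hτ k), rfl⟩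
  refine Exists.imp (fun k hk => congrArg Subtype.val hk)
    (orbit_full hH hf hP0 hτ (card_cls hH hf hP0) ⟨e0 hH f, f, hf, rfl⟩ act (fun k e1 => hne ?_)
      (fun k k' e1 z hz => ?_) (x := ⟨e0 hH h', h', hh', rfl⟩) (fun e1 => hne' (congrArg Subtype.val e1)))
  · have e2 : e0 hH (τ ^ k • h) = e0 hH f := congrArg Subtype.val e1
    have h2 := e0_congr hH (b := (τ ^ k)⁻¹) (inv_smul_eq_iff.mpr (tau_e hH hτ k).symm) e2
    rwa [inv_smul_smul, inv_smul_eq_iff.mpr (tau_f hH hτ k).symm] at h2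
  · obtain ⟨i, hi⟩ := exists_pow_inv τ k'
    have hj : τ ^ (i + k) = (τ ^ k')⁻¹ * τ ^ k := by rw [pow_add, hi]
    have hfixh : e0 hH (τ ^ (i + k) • h) = e0 hH h := by
      have h2 := e0_congr hH (b := (τ ^ k')⁻¹) (inv_smul_eq_iff.mpr (tau_e hH hτ k').symm)
        (congrArg Subtype.val e1 : e0 hH (τ ^ k • h) = e0 hH (τ ^ k' • h))
      rwa [inv_smul_smul, ← mul_smul, ← hj] at h2
    obtain ⟨l, -, hl⟩ := card_zc_pow hH hf
    refine ⟨i + k, hj, cent_of_inv hH hf hP0 hτ (i + k) (S := fun c => c ≠ e ∧ e0 hH c = e0 hH h)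
      (fun c hc => ⟨ne_e hH hc.1 (tau_e hH hτ _), by rw [e0_congr hH (tau_e hH hτ _) hc.2, hfixh]⟩)
      (fun hc => hc.1 rfl) (fun hc => hne hc.2.symm) (i := l * 2) ?_ hz⟩
    rw [card_class hH hh (p0_ne_bot hH hf hP0 hh), hl, pow_mul]

/-- The powers of `τ` are transitive on the non-trivial cosets of the kernel. -/
theorem trans_P {b b' : G} (hb : b ∈ P) (hb' : b' ∈ P) (hN : b ∉ nN hH f) (hN' : b' ∉ nN hH f) :
    ∃ k, (τ ^ k * b * (τ ^ k)⁻¹)⁻¹ * b' ∈ nN hH f := by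
  obtain ⟨k, hk⟩ := trans_class hH hf hP0 hτ (ne_e hH hf (p_e hH hb)) (ne_e hH hf (p_e hH hb'))
    (fun h => hN ⟨hb, h⟩) (fun h => hN' ⟨hb', h⟩)
  have hm := tau_P hH hτ k hb
  refine ⟨k, mul_mem (inv_mem hm) hb', ?_⟩
  rw [mul_smul, ← e0_congr hH (p_e hH (inv_mem hm)) hk, ← mul_smul]
  rw [show (τ ^ k * b * (τ ^ k)⁻¹)⁻¹ * τ ^ k = τ ^ k * b⁻¹ by group, ← mul_smul,
    inv_mul_cancel_right, tau_f hH hτ k]

/-- The stabiliser of a class fixes them all. -/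
theorem nN_fix_all {x : G} (hx : x ∈ nN hH f) {h : Ω} (hh : h ≠ e) : e0 hH (x • h) = e0 hH h := by
  haveI := Fact.mk Nat.prime_two
  -- a second class fixed by `N`
  haveI : Group.IsNilpotent P := hH.two_group.isNilpotent
  obtain ⟨b0, hb0, hb0N⟩ := exists_not_mem_nN hH hf hP0
  have hlt : (nN hH f).subgroupOf P < ⊤ := lt_top_iff_ne_top.mpr fun h => hb0N (by
    have h1 : (⟨b0, hb0⟩ : P) ∈ (nN hH f).subgroupOf P := by rw [h]; exact Subgroup.mem_top _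
    exact h1)
  obtain ⟨⟨b, hb⟩, hbn, hbN⟩ := SetLike.exists_of_lt (Group.normalizerCondition_of_isNilpotent _ hlt)
  have hbfix : ∀ y ∈ nN hH f, e0 hH (y • b • f) = e0 hH (b • f) := fun y hy => by
    have h1 : (⟨b, hb⟩ : P)⁻¹ * ⟨y, hy.1⟩ * ⟨b, hb⟩ ∈ (nN hH f).subgroupOf P :=
      ((Subgroup.mem_normalizer_iff''.mp hbn) ⟨y, hy.1⟩).mp (Subgroup.mem_subgroupOf.mpr hy)
    have h2 : b⁻¹ * y * b ∈ nN hH f := h1
    rw [← mul_smul, show y * b = b * (b⁻¹ * y * b) by group, mul_smul, e0_congr hH (p_e hH hb) h2.2]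
  by_cases hcl : e0 hH h = e0 hH f
  · rw [e0_congr hH (p_e hH hx.1) hcl, hx.2, hcl]
  obtain ⟨k, hk⟩ := trans_class hH hf hP0 hτ (ne_e hH hf (p_e hH hb)) hh
    (fun h => hbN (Subgroup.mem_subgroupOf.mpr ⟨hb, h⟩)) hcl
  obtain ⟨j, hj⟩ := exists_pow_inv τ k
  have hy := tau_nN hH hτ j hx
  rw [hj, inv_inv] at hy
  rw [← hk, ← e0_congr hH (p_e hH hx.1) hk, ← mul_smul, show x * τ ^ k = τ ^ k * ((τ ^ k)⁻¹ * x * τ ^ k) by group,
    mul_smul, e0_congr hH (tau_e hH hτ k) (hbfix _ hy)]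

/-- The stabiliser of a class is normal in `P`. -/
theorem conj_nN {b x : G} (hb : b ∈ P) (hx : x ∈ nN hH f) : b * x * b⁻¹ ∈ nN hH f := by
  refine ⟨mul_mem (mul_mem hb hx.1) (inv_mem hb), ?_⟩
  rw [mul_smul, mul_smul, e0_congr hH (p_e hH hb)
    (nN_fix_all hH hf hP0 hτ hx (ne_e hH hf (p_e hH (inv_mem hb)))), smul_inv_smul]

/-- The powers of `τ` are transitive on the non-trivial cosets of `E` in the kernel. -/
theorem trans_N {a a' : G} (ha : a ∈ nN hH f) (ha' : a' ∈ nN hH f) (hE : a ∉ e0 hH f) (hE' : a' ∉ e0 hH f) :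
    ∃ k, (τ ^ k * a * (τ ^ k)⁻¹)⁻¹ * a' ∈ e0 hH f := by
  classical
  set E := (e0 hH f).subgroupOf (nN hH f) with hEdef
  have hX : Nat.card (↥(nN hH f) ⧸ E) = Nat.card (zc hH e) := by
    have h1 := E.card_mul_index
    rw [Subgroup.index_eq_card, Nat.card_congr (Subgroup.subgroupOfEquivOfLe (e0_le_nN hH f)).toEquiv,
      card_nN hH hf hP0, card_e0 hH hf] at h1
    have hq := four_le_card_zc hH e
    refine Nat.eq_of_mul_eq_mul_left (Nat.mul_pos (n := Nat.card (zc hH e)) (by omega) Nat.card_pos) (h1.trans ?_)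
    ring
  refine Exists.imp (fun k hk => Subgroup.mem_subgroupOf.mp (QuotientGroup.eq.mp hk))
    (orbit_full hH hf hP0 hτ hX ((1 : nN hH f) : ↥(nN hH f) ⧸ E)
    (fun k => ((⟨τ ^ k * a * (τ ^ k)⁻¹, tau_nN hH hτ k ha⟩ : nN hH f) : ↥(nN hH f) ⧸ E)) (fun k e1 => hE ?_)
    (fun k k' e1 z hz => ?_) (x := ((⟨a', ha'⟩ : nN hH f) : ↥(nN hH f) ⧸ E))
    (fun e1 => hE' (by
      have h1 := QuotientGroup.eq.mp e1
      rw [hEdef, Subgroup.mem_subgroupOf] at h1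
      simpa using h1)))
  · have h1 : τ ^ k * a * (τ ^ k)⁻¹ ∈ e0 hH f := by
      have h2 := Subgroup.mem_subgroupOf.mp (QuotientGroup.eq.mp e1.symm)
      simpa using h2
    obtain ⟨j, hj⟩ := exists_pow_inv τ k
    have h2 := tau_e0 hH hτ j h1
    rwa [hj, inv_inv, show (τ ^ k)⁻¹ * (τ ^ k * a * (τ ^ k)⁻¹) * τ ^ k = a by group] at h2
  · have h1 : (τ ^ k' * a * (τ ^ k')⁻¹)⁻¹ * (τ ^ k * a * (τ ^ k)⁻¹) ∈ e0 hH f :=
      Subgroup.mem_subgroupOf.mp (QuotientGroup.eq.mp e1.symm)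
    obtain ⟨i, hi⟩ := exists_pow_inv τ k'
    have hj : τ ^ (i + k) = (τ ^ k')⁻¹ * τ ^ k := by rw [pow_add, hi]
    set g := τ ^ (i + k) with hg
    have hga : a⁻¹ * (g * a * g⁻¹) ∈ e0 hH f := by
      have h2 := tau_e0 hH hτ i h1
      rwa [hi, inv_inv, show (τ ^ k')⁻¹ * ((τ ^ k' * a * (τ ^ k')⁻¹)⁻¹ * (τ ^ k * a * (τ ^ k)⁻¹)) * τ ^ k' =
        a⁻¹ * (((τ ^ k')⁻¹ * τ ^ k) * a * ((τ ^ k')⁻¹ * τ ^ k)⁻¹) by group, ← hj] at h2
    have hae : a • e = e := p_e hH ha.1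
    have hS0 : ∀ x ∈ e0 hH f, (a * x) • e = e := fun x hx => p_e hH (mul_mem ha.1 (e0_le hH f hx))
    obtain ⟨l, -, hl⟩ := card_zc_pow hH hf
    refine ⟨i + k, hj, cent_of_inv hH hf hP0 hτ (i + k) (S := fun c => ∃ x ∈ e0 hH f, (a * x) • f = c)
      ?_ ?_ ?_ (i := l) ?_ hz⟩
    · rintro c ⟨x, hx, rfl⟩
      refine ⟨a⁻¹ * (g * a * g⁻¹) * (g * x * g⁻¹), mul_mem hga (tau_e0 hH hτ (i + k) hx), ?_⟩
      rw [show a * (a⁻¹ * (g * a * g⁻¹) * (g * x * g⁻¹)) = g * (a * x) * g⁻¹ by group, mul_smul, mul_smul,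
        inv_smul_eq_iff.mpr (tau_f hH hτ (i + k)).symm]
    · rintro ⟨x, hx, h2⟩
      exact ne_e hH hf (hS0 x hx) h2
    · rintro ⟨x, hx, h2⟩
      have h3 : a * x ∈ p0 hH f := by
        have h4 : a * x ∈ pt hH e := (pt_self hH).ge (mul_mem ha.1 (e0_le hH f hx))
        exact Subgroup.mem_inf.mpr ⟨h4, (mem_pt hH).mpr ⟨h2, ((mem_pt hH).mp h4).2⟩⟩
      refine hE ?_
      rw [show a = a * x * x⁻¹ by group]
      exact mul_mem (p0_le_e0 hH f h3) (inv_mem hx)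
    · rw [← hl]
      refine (Nat.card_eq_of_bijective (fun z : zc hH e =>
        (⟨(a * (z : G)) • f, z, zc_le_e0 hH f z.2, rfl⟩ : {c : Ω // ∃ x ∈ e0 hH f, (a * x) • f = c}))
        ⟨fun z z' h2 => ?_, ?_⟩).symm
      · have h3 : (z : G) • f = (z' : G) • f := by
          have h4 := congrArg Subtype.val h2
          simp only [mul_smul] at h4
          exact MulAction.injective a h4
        by_contra hne'
        refine zc_moves hH (mul_mem (inv_mem z'.2) z.2) (fun e2 => hne' (Subtype.ext (inv_mul_eq_one.mp e2).symm))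
          hf ?_
        rw [mul_smul, h3, inv_smul_smul]
      · rintro ⟨c, x, ⟨z, hz', hzx⟩, rfl⟩
        refine ⟨⟨z, hz'⟩, Subtype.ext ?_⟩
        show (a * z) • f = (a * x) • f
        conv_rhs => rw [show a * x = a * z * (z⁻¹ * x) by group, mul_smul (a * z),
          pt_smul hH (Subgroup.mem_inf.mp hzx).2]

end CfsgLib.BNRankOne
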