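import Cfsg.Agent.Lib.BNRankOne.Swap
import Cfsg.Agent.Lib.Bender.TwoClosed.Basic

/-!
The centraliser of the 2-elements fixing two points acts on their line as a group with 2-closed point stabilisers.
-/

set_option autoImplicit false
set_option linter.unusedSectionVars false
set_option linter.style.haveILetI false

namespace CfsgLib.BNRankOne

open MulAction CfsgLib.Bender

universe u v

/-- A 2-closed point stabiliser is transitive on the other points. -/
def TwoClosedTrans : Prop :=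
  ∀ (G : Type u) (Ω : Type v) [Group G] [Finite G] [MulAction G Ω] [FaithfulSMul G Ω] (a : Ω) (S : Subgroup G),
    TwoClosed.Closed G Ω a S → TwoClosed.Trans a S

theorem exists_two_lift {A B : Type u} [Group A] [Finite A] [Group B] (φ : A →* B)
    (hφ : Function.Surjective φ) {x : B} (hx : IsTwo x) : ∃ g : A, IsTwo g ∧ φ g = x := by
  obtain ⟨k, hk⟩ := hx
  obtain ⟨g, rfl⟩ := hφ x
  set n := orderOf g with hn
  obtain ⟨a, b, hb, hab⟩ := Nat.exists_eq_two_pow_mul_odd (n := n) (orderOf_pos g).ne'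
  obtain ⟨c, -, hc⟩ := Nat.exists_mul_mod_eq_one_of_coprime (k := 2 ^ (k + 1)) (n := b)
    ((Nat.coprime_two_right.mpr hb).pow_right (k + 1)) (Nat.one_lt_two_pow (by omega))
  refine ⟨g ^ (b * c), ⟨a, ?_⟩, ?_⟩
  · rw [← pow_mul, show b * c * 2 ^ a = 2 ^ a * b * c by ring, ← hab, pow_mul, pow_orderOf_eq_one, one_pow]
  · rw [map_pow, ← Nat.div_add_mod (b * c) (2 ^ (k + 1)), hc, pow_add, pow_mul,
      show φ g ^ 2 ^ (k + 1) = 1 by rw [pow_succ 2 k, pow_mul, hk, one_pow], one_pow, one_mul, pow_one]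

variable {G : Type u} {Ω : Type v} [Group G] [MulAction G Ω] {e : Ω} {P : Subgroup G}

/-- The 2-elements fixing the base point and `f`. -/
noncomputable abbrev p0 (hH : Hyp G Ω e P) (f : Ω) : Subgroup G := pt hH e ⊓ pt hH f

/-- Their centraliser. -/
noncomputable abbrev cen0 (hH : Hyp G Ω e P) (f : Ω) : Subgroup G :=
  Subgroup.centralizer (p0 hH f : Set G)

/-- The points of the line. -/
abbrev Ln (hH : Hyp G Ω e P) (f : Ω) : Type v := {c : Ω // c ∈ line hH e f}

theorem cen0_comm (hH : Hyp G Ω e P) {f : Ω} {g : G} (hg : g ∈ cen0 hH f) :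
    ∀ x ∈ p0 hH f, x * g = g * x := fun x hx => Subgroup.mem_centralizer_iff.mp hg x hx

noncomputable instance lineAction (hH : Hyp G Ω e P) (f : Ω) : MulAction (cen0 hH f) (Ln hH f) where
  smul g c := ⟨(g : G) • (c : Ω), smul_line hH (cen0_comm hH g.2) c.2⟩
  one_smul c := Subtype.ext (one_smul G (c : Ω))
  mul_smul g g' c := Subtype.ext (mul_smul (g : G) (g' : G) (c : Ω))

/-- The action on the line. -/
noncomputable abbrev lineHom (hH : Hyp G Ω e P) (f : Ω) : cen0 hH f →* Equiv.Perm (Ln hH f) :=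
  MulAction.toPermHom (cen0 hH f) (Ln hH f)

/-- The group induced on the line. -/
noncomputable abbrev LBar (hH : Hyp G Ω e P) (f : Ω) : Type u := cen0 hH f ⧸ (lineHom hH f).ker

/-- The projection. -/
noncomputable abbrev toLBar (hH : Hyp G Ω e P) (f : Ω) : cen0 hH f →* LBar hH f := QuotientGroup.mk' _

noncomputable instance lbarAction (hH : Hyp G Ω e P) (f : Ω) : MulAction (LBar hH f) (Ln hH f) :=
  MulAction.compHom (Ln hH f) (QuotientGroup.kerLift (lineHom hH f))

theorem toLBar_smul (hH : Hyp G Ω e P) {f : Ω} (g : cen0 hH f) (c : Ln hH f) :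
    toLBar hH f g • c = g • c := rfl

theorem coe_smul_ln (hH : Hyp G Ω e P) {f : Ω} (g : cen0 hH f) (c : Ln hH f) :
    ((g • c : Ln hH f) : Ω) = (g : G) • (c : Ω) := rfl

instance lbarFaithful (hH : Hyp G Ω e P) (f : Ω) : FaithfulSMul (LBar hH f) (Ln hH f) :=
  ⟨fun {x y} h => QuotientGroup.kerLift_injective (lineHom hH f) (Equiv.ext h)⟩

/-- The base point on the line. -/
noncomputable abbrev ln0 (hH : Hyp G Ω e P) (f : Ω) : Ln hH f := ⟨e, mem_line_left hH e f⟩

/-- The image of `P`. -/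
noncomputable abbrev lbarP (hH : Hyp G Ω e P) (f : Ω) : Subgroup (LBar hH f) :=
  (P.subgroupOf (cen0 hH f)).map (toLBar hH f)

variable [Finite G] [FaithfulSMul G Ω] (hH : Hyp G Ω e P) {f : Ω} (hf : f ≠ e)

include hH

theorem zc_mem_cen0 {c : Ω} (hc : c ∈ line hH e f) {x : G} (hx : x ∈ zc hH c) : x ∈ cen0 hH f :=
  Subgroup.mem_centralizer_iff.mpr fun y hy =>
    (zc_comm hH hx (hc y hy) ((mem_pt hH).mp (Subgroup.mem_inf.mp hy).1).2).symm

theorem trans_line (c d : Ln hH f) : ∃ g : cen0 hH f, g • c = d := by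
  by_cases hcd : (c : Ω) = d
  · exact ⟨1, by rw [one_smul]; exact Subtype.ext hcd⟩
  obtain ⟨z, hz, hz1⟩ := exists_zc hH (c : Ω)
  obtain ⟨w, hw, hw1⟩ := exists_zc hH (d : Ω)
  obtain ⟨g, -, hgc, hcom⟩ := exists_carrier hH hcd hz hz1 hw hw1
  refine ⟨⟨g, Subgroup.mem_centralizer_iff.mpr fun y hy => (hcom y ?_ ?_).symm⟩, Subtype.ext hgc⟩
  · exact zc_comm hH hz (c.2 y hy) ((mem_pt hH).mp (Subgroup.mem_inf.mp hy).1).2
  · exact zc_comm hH hw (d.2 y hy) ((mem_pt hH).mp (Subgroup.mem_inf.mp hy).1).2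

include hf

/-- A 2-element of the centraliser fixing two points of the line fixes the line. -/
theorem lbar_eq_one {g : cen0 hH f} (hg : IsTwo (g : G)) {c d : Ln hH f} (hcd : c ≠ d)
    (hc : (g : G) • (c : Ω) = c) (hd : (g : G) • (d : Ω) = d) : toLBar hH f g = 1 := by
  have h1 := inf_eq_of_mem_line hH hf.symm (fun e1 => hcd (Subtype.ext e1)) c.2 d.2
  have hmem : (g : G) ∈ p0 hH f := by
    show (g : G) ∈ pt hH e ⊓ pt hH f
    rw [← h1]
    exact Subgroup.mem_inf.mpr ⟨(mem_pt hH).mpr ⟨hc, hg⟩, (mem_pt hH).mpr ⟨hd, hg⟩⟩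
  exact (QuotientGroup.eq_one_iff g).mpr (MonoidHom.mem_ker.mpr (Equiv.ext fun b => Subtype.ext (b.2 _ hmem)))

theorem toLBar_inj_zc {x : cen0 hH f} (hx : (x : G) ∈ zc hH e) (h : toLBar hH f x = 1) : (x : G) = 1 := by
  by_contra h1
  refine hf (fix_only hH hx h1 ?_)
  have h2 : toLBar hH f x • (⟨f, mem_line_right hH e f⟩ : Ln hH f) = ⟨f, mem_line_right hH e f⟩ := by
    rw [h, one_smul]
  exact congrArg Subtype.val h2

theorem odd_line : Odd (Nat.card (Ln hH f)) := by
  classical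
  haveI := finite_points hH
  haveI := Fact.mk Nat.prime_two
  have hp : IsPGroup 2 (p0 hH f) := (pt_two_group hH e).to_le inf_le_left
  have h1 := hp.card_modEq_card_fixedPoints Ω
  have h2 : Nat.card (fixedPoints (p0 hH f) Ω) = Nat.card (Ln hH f) :=
    Nat.card_congr (Equiv.subtypeEquivRight fun c => ⟨fun h x hx => h ⟨x, hx⟩, fun h x => h x.1 x.2⟩)
  rw [h2] at h1
  rw [Nat.odd_iff]
  have h3 : Nat.card Ω % 2 = 1 := Nat.odd_iff.mp hH.odd_points
  unfold Nat.ModEq at h1
  omega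

theorem lbar_closed [IsSimpleGroup G] : TwoClosed.Closed (LBar hH f) (Ln hH f) (ln0 hH f) (lbarP hH f) := by
  classical
  haveI := finite_points hH
  haveI := Fact.mk Nat.prime_two
  have htwo : ∀ {x : cen0 hH f}, IsTwo x → IsTwo (x : G) := fun {x} ⟨k, hk⟩ => ⟨k, by
    rw [← SubgroupClass.coe_pow, hk, OneMemClass.coe_one]⟩
  refine ⟨⟨fun c d => ?_⟩, fun x hx => ?_, ?_, fun x hx => ?_, fun h hh x hx => ?_, ?_, fun x hxa hx => ?_⟩
  · obtain ⟨g, hg⟩ := trans_line hH c d
    exact ⟨toLBar hH f g, hg⟩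
  · obtain ⟨g, hg, rfl⟩ := exists_two_lift (toLBar hH f) (QuotientGroup.mk'_surjective _) (isTwo_of_mul_self hx.2)
    have hle : ∀ c d : Ln hH f, toLBar hH f g • c = c → toLBar hH f g • d = d → c = d := fun c d hc hd => by
      by_contra hcd
      exact hx.1 (lbar_eq_one hH hf (htwo hg) hcd (congrArg Subtype.val hc) (congrArg Subtype.val hd))
    have hp : IsPGroup 2 (Subgroup.zpowers (toLBar hH f g)) := by
      refine IsPGroup.of_card (n := 1) ?_
      rw [Nat.card_zpowers, pow_one]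
      exact orderOf_eq_prime (by rw [pow_two, hx.2]) hx.1
    obtain ⟨c, hc⟩ : ∃ c : Ln hH f, toLBar hH f g • c = c := by
      have h1 := hp.card_modEq_card_fixedPoints (Ln hH f)
      by_contra hno
      push Not at hno
      haveI : IsEmpty (fixedPoints (Subgroup.zpowers (toLBar hH f g)) (Ln hH f)) :=
        ⟨fun c => hno c.1 (c.2 ⟨_, Subgroup.mem_zpowers _⟩)⟩
      rw [Nat.card_of_isEmpty (α := fixedPoints (Subgroup.zpowers (toLBar hH f g)) (Ln hH f))] at h1
      have h3 : Nat.card (Ln hH f) % 2 = 1 := Nat.odd_iff.mp (odd_line hH hf)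
      unfold Nat.ModEq at h1
      omega
    exact ⟨c, hc, fun d hd => hle d c hd hc⟩
  · have h4 := four_le_card_zc hH e
    haveI := Fintype.ofFinite (zc hH e)
    obtain ⟨a, ha, b, hb, hab⟩ : ∃ a : zc hH e, a ≠ 1 ∧ ∃ b : zc hH e, b ≠ 1 ∧ a ≠ b := by
      haveI : Nontrivial (zc hH e) := Finite.one_lt_card_iff_nontrivial.mp (by omega)
      obtain ⟨a, ha⟩ := exists_ne (1 : zc hH e)
      by_contra hno
      push Not at hno
      have : ∀ b : zc hH e, b = 1 ∨ b = a := fun b => (em (b = 1)).imp id fun hb => (hno a ha b hb).symm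
      have h2 : Nat.card (zc hH e) ≤ Nat.card Bool :=
        Nat.card_le_card_of_surjective (fun i : Bool => if i then a else 1) fun b => by
          rcases this b with h | h
          · exact ⟨false, h.symm⟩
          · exact ⟨true, h.symm⟩
      rw [Nat.card_eq_fintype_card (α := Bool), Fintype.card_bool] at h2
      omega
    let a' : cen0 hH f := ⟨a, zc_mem_cen0 hH (mem_line_left hH e f) a.2⟩
    let b' : cen0 hH f := ⟨b, zc_mem_cen0 hH (mem_line_left hH e f) b.2⟩
    refine ⟨toLBar hH f a', toLBar hH f b', fun h => ha (Subtype.ext (toLBar_inj_zc hH hf a.2 h)),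
      fun h => hb (Subtype.ext (toLBar_inj_zc hH hf b.2 h)), fun h => hab ?_, ?_, ?_, ?_⟩
    · refine Subtype.ext (inv_mul_eq_one.mp (toLBar_inj_zc hH hf (x := a'⁻¹ * b')
        ((zc hH e).mul_mem ((zc hH e).inv_mem a.2) b.2) ?_))
      rw [map_mul, map_inv, h, inv_mul_cancel]
    · rw [← map_mul, show a' * a' = 1 from Subtype.ext a.2.2.1, map_one]
    · rw [← map_mul, show b' * b' = 1 from Subtype.ext b.2.2.1, map_one]
    · rw [← map_mul, ← map_mul, show a' * b' = b' * a' from Subtype.ext (a.2.2.2 _ b.2.1)]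
  · obtain ⟨y, hy, rfl⟩ := hx
    exact mem_stabilizer_iff.mpr (Subtype.ext (mem_stabilizer_iff.mp (hH.le (Subgroup.mem_subgroupOf.mp hy))))
  · obtain ⟨y, hy, rfl⟩ := hx
    obtain ⟨g, rfl⟩ := QuotientGroup.mk'_surjective _ h
    exact ⟨g * y * g⁻¹, hH.conj _ (congrArg Subtype.val hh) _ (Subgroup.mem_subgroupOf.mp hy),
      by rw [map_mul, map_mul, map_inv]⟩
  · exact (hH.two_group.comap_of_injective (cen0 hH f).subtype (cen0 hH f).subtype_injective).map _
  · obtain ⟨g, hg, rfl⟩ := exists_two_lift (toLBar hH f) (QuotientGroup.mk'_surjective _) hx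
    exact ⟨g, hH.two_mem _ (congrArg Subtype.val hxa) (htwo hg), rfl⟩

/-- `P` is transitive on the other points of the line. -/
theorem exists_P_line [IsSimpleGroup G] (hT : TwoClosedTrans.{u, v}) {c : Ω} (hc : c ∈ line hH e f) (hce : c ≠ e) :
    ∃ x ∈ P, x • f = c := by
  haveI := finite_points hH
  obtain ⟨x, ⟨y, hy, rfl⟩, hxc⟩ := hT _ _ (ln0 hH f) (lbarP hH f) (lbar_closed hH hf)
    ⟨f, mem_line_right hH e f⟩ ⟨c, hc⟩ (fun e1 => hf (congrArg Subtype.val e1))
    (fun e1 => hce (congrArg Subtype.val e1))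
  exact ⟨y, hy, congrArg Subtype.val hxc⟩

/-- `P` is transitive on the other points. -/
theorem exists_P [IsSimpleGroup G] (hT : TwoClosedTrans.{u, v}) {c : Ω} (hce : c ≠ e) :
    ∃ x ∈ P, x • f = c := by
  obtain ⟨x, hx, o, hoe, hoc, rfl⟩ := hH.split f c hf hce
  have hline : o • f ∈ line hH e f := smul_line hH
    (fun y hy => (hoc y (pt_self hH ▸ (Subgroup.mem_inf.mp hy).1)).symm) (mem_line_right hH e f)
  have hne : o • f ≠ e := fun e1 => hf (MulAction.injective o (e1.trans hoe.symm))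
  obtain ⟨x', hx', hx'f⟩ := exists_P_line hH hf hT hline hne
  exact ⟨x * x', mul_mem hx hx', by rw [mul_smul, hx'f]⟩

end CfsgLib.BNRankOne
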