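import Cfsg.Agent.Lib.BNRankOne.LineGroup

/-!
An involution fixing two points fixes exactly `q + 1` points, a line.
-/

set_option autoImplicit false
set_option linter.unusedSectionVars false
set_option linter.style.haveILetI false

namespace CfsgLib.BNRankOne

open MulAction

universe u v

theorem arith {A q N l : ℕ} (hq : q = 2 ^ l) (hl : 2 ≤ l) (hA : 2 ≤ A) (hN : (A - 1) * (1 + A * (q - 1)) = 2 ^ N) :
    A = q + 1 := by
  obtain ⟨i, -, hi⟩ := (Nat.dvd_prime_pow Nat.prime_two).mp (Dvd.intro (1 + A * (q - 1)) hN)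
  obtain ⟨j, -, hj⟩ := (Nat.dvd_prime_pow Nat.prime_two).mp (Dvd.intro_left (A - 1) hN)
  obtain ⟨p, hp⟩ : ∃ p, q = p + 1 := ⟨q - 1, by have := Nat.one_le_two_pow (n := l); omega⟩
  have hA' : A = 2 ^ i + 1 := by omega
  rw [hA', show q - 1 = p by omega] at hj
  have key : 2 ^ j + 2 ^ i = q * (2 ^ i + 1) := by rw [← hj, hp]; ring
  rw [hq] at key
  -- compare the powers of two
  rcases lt_trichotomy i l with h | h | h
  · exfalso
    obtain ⟨d, rfl⟩ := Nat.exists_eq_add_of_lt h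
    have h1 : 2 ^ j + 2 ^ i = 2 ^ i * (2 ^ (d + 1) * (2 ^ i + 1)) := by rw [key]; ring
    have h2 : 2 ^ i * 2 ≤ 2 ^ i * (2 ^ (d + 1) * (2 ^ i + 1)) := by
      refine Nat.mul_le_mul_left _ ?_
      have : 2 ≤ 2 ^ (d + 1) := Nat.le_self_pow (by omega) 2
      nlinarith [Nat.zero_le (2 ^ i)]
    have hij : i ≤ j := (Nat.pow_le_pow_iff_right (le_refl 2)).mp (by omega)
    obtain ⟨d', rfl⟩ := Nat.exists_eq_add_of_le hij
    rw [pow_add, ← mul_add_one] at h1
    have h3 := Nat.eq_of_mul_eq_mul_left (by positivity) h1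
    rcases d' with _ | d'
    · have hi1 : 2 ^ (d + 1) * (2 ^ i + 1) = 2 := by simpa using h3.symm
      have h5 : 2 ^ 2 ≤ 2 ^ (i + d + 1) := Nat.pow_le_pow_right two_pos hl
      have h6 : 2 ^ (d + 1) ≤ 2 ^ (d + 1) * (2 ^ i + 1) := Nat.le_mul_of_pos_right _ (by omega)
      have h7 : d = 0 := by
        by_contra hd
        have : 2 ^ 2 ≤ 2 ^ (d + 1) := Nat.pow_le_pow_right two_pos (by omega)
        omega
      subst h7
      omega
    · rw [pow_succ, pow_succ 2 d] at h3
      have h4 : Even (2 ^ d' * 2 + 1) := by rw [h3]; exact ⟨2 ^ d * (2 ^ i + 1), by ring⟩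
      rw [Nat.even_iff] at h4
      omega
  · rw [hA', hq, h]
  · exfalso
    obtain ⟨d, rfl⟩ := Nat.exists_eq_add_of_lt h
    have hd2 : 2 ^ (d + 1) < 2 ^ (l + d + 1) := Nat.pow_lt_pow_right (by norm_num) (by omega)
    have hlj : l ≤ j := by
      refine (Nat.pow_le_pow_iff_right (le_refl 2)).mp ?_
      have : 2 ^ (l + d + 1) * 2 ≤ 2 ^ l * 2 ^ (l + d + 1) := by
        rw [mul_comm (2 ^ l)]
        exact Nat.mul_le_mul_left _ (Nat.le_self_pow (by omega) 2)
      nlinarith [Nat.zero_le (2 ^ (l + d + 1))]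
    obtain ⟨d', rfl⟩ := Nat.exists_eq_add_of_le hlj
    rw [show (2 : ℕ) ^ (l + d') + 2 ^ (l + d + 1) = 2 ^ l * (2 ^ d' + 2 ^ (d + 1)) by ring] at key
    have h3 := Nat.eq_of_mul_eq_mul_left (by positivity) key
    rcases d' with _ | d'
    · omega
    · have h4 : Odd (2 ^ (l + d + 1) + 1) := (Nat.even_pow.mpr ⟨even_two, by omega⟩).add_one
      rw [← h3, pow_succ, pow_succ 2 d, Nat.odd_iff] at h4
      omega

variable {G : Type u} {Ω : Type v} [Group G] [MulAction G Ω] {e : Ω} {P : Subgroup G}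
  [Finite G] [FaithfulSMul G Ω] [IsSimpleGroup G] (hH : Hyp G Ω e P) (hT : TwoClosedTrans.{u, v}) {f : Ω}
  (hf : f ≠ e)

include hH hT hf

/-- The orbit of `P`. -/
theorem card_P : Nat.card P = Nat.card {c : Ω // c ≠ e} * Nat.card (p0 hH f) := by
  rw [← (stabilizer P f).card_mul_index, MulAction.index_stabilizer, ← Nat.card_coe_set_eq, mul_comm]
  congr 1
  · refine Nat.card_congr (Equiv.subtypeEquivRight fun c => ⟨?_, fun hc => ?_⟩)
    · rintro ⟨x, rfl⟩ h
      change (x : G) • f = e at h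
      exact hf (MulAction.injective (x : G) (h.trans (mem_stabilizer_iff.mp (hH.le x.2)).symm))
    · obtain ⟨x, hx, hxc⟩ := exists_P hH hf hT hc
      exact ⟨⟨x, hx⟩, hxc⟩
  · refine Nat.card_congr
      { toFun := fun x => ⟨(x.1 : G), Subgroup.mem_inf.mpr ⟨by rw [pt_self hH]; exact x.1.2,
          (mem_pt hH).mpr ⟨x.2, ((mem_pt hH).mp (by rw [pt_self hH]; exact x.1.2 : (x.1 : G) ∈ pt hH e)).2⟩⟩⟩
        invFun := fun x => ⟨⟨x, (pt_self hH).le (Subgroup.mem_inf.mp x.2).1⟩,
          pt_smul hH (Subgroup.mem_inf.mp x.2).2⟩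
        left_inv := fun x => rfl
        right_inv := fun x => rfl }

theorem exists_pow_others : ∃ N, Nat.card {c : Ω // c ≠ e} = 2 ^ N := by
  haveI := Fact.mk Nat.prime_two
  obtain ⟨M, hM⟩ := IsPGroup.iff_card.mp hH.two_group
  rw [card_P hH hT hf] at hM
  obtain ⟨N, -, hN⟩ := (Nat.dvd_prime_pow Nat.prime_two).mp (Dvd.intro _ hM)
  exact ⟨N, hN⟩

omit hT hf in
theorem card_omega : Nat.card Ω = Nat.card {c : Ω // c ≠ e} + 1 := by
  classical
  haveI := finite_points hH
  rw [← Finite.card_option]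
  exact Nat.card_congr (Equiv.optionSubtypeNe e).symm

/-- An involution with two fixed points has `q + 1` of them. -/
theorem nfix_eq {y : G} (hy2 : y * y = 1) (hy1 : y ≠ 1) {a b : Ω} (hab : a ≠ b) (ha : y • a = a) (hb : y • b = b) :
    nfix Ω y = Nat.card (zc hH e) + 1 ∧ Nat.card {c : Ω // c ≠ e} = Nat.card (zc hH e) ^ 3 := by
  classical
  haveI := finite_points hH
  haveI := Fact.mk Nat.prime_two
  have hq4 := four_le_card_zc hH e
  obtain ⟨z, hz, hz1⟩ := exists_zc hH a
  have hcount := card_moved hH hy2 hab ha hb hz hz1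
  set q := Nat.card (zc hH e) with hq
  set A := nfix Ω y with hA
  set A1 := nfix Ω (y * z) with hA1
  have hA2 : 2 ≤ A := by
    haveI : Nontrivial {c : Ω // y • c = c} :=
      ⟨⟨⟨a, ha⟩, ⟨b, hb⟩, fun e1 => hab (congrArg Subtype.val e1)⟩⟩
    exact Finite.one_lt_card
  have hlt : A < Nat.card Ω := by
    by_contra h
    refine hy1 (eq_of_smul_eq_smul (α := Ω) fun c => ?_)
    rw [one_smul]
    have hbij : Function.Bijective (Subtype.val : {c : Ω // y • c = c} → Ω) :=
      Subtype.val_injective.bijective_of_nat_card_le (not_lt.mp h)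
    obtain ⟨c', rfl⟩ := hbij.2 c
    exact c'.2
  have hA12 : 2 ≤ A1 := by
    by_contra h
    rw [show A1 - 1 = 0 by omega, mul_zero, mul_zero, add_zero] at hcount
    omega
  -- the product again fixes two points
  have hyz : y * z = z * y := (zc_comm hH hz ha (isTwo_of_mul_self hy2)).symm
  set i := y * z with hi
  have hi2 : i * i = 1 := by
    rw [hi, mul_assoc, ← mul_assoc z y z, ← hyz, mul_assoc y z z, hz.2.1, mul_one, hy2]
  have hia : i • a = a := by rw [hi, mul_smul, zc_smul hH hz, ha]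
  obtain ⟨c, hic, hca⟩ : ∃ c, i • c = c ∧ c ≠ a := by
    by_contra hno
    push Not at hno
    haveI : Subsingleton {c : Ω // i • c = c} :=
      ⟨fun x x' => Subtype.ext ((hno x.1 x.2).trans (hno x'.1 x'.2).symm)⟩
    have h1 : nfix Ω i ≤ 1 := Finite.card_le_one_iff_subsingleton.mpr inferInstance
    omega
  obtain ⟨z', hz', hz1', hzz'⟩ : ∃ z' ∈ zc hH a, z' ≠ 1 ∧ z' ≠ z := by
    by_contra hno
    push Not at hno
    have h1 : Nat.card (zc hH a) ≤ Nat.card Bool :=
      Nat.card_le_card_of_surjective (fun i : Bool => if i then (⟨z, hz⟩ : zc hH a) else 1) fun x => by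
        by_cases hx : (x : G) = 1
        · exact ⟨false, Subtype.ext hx.symm⟩
        · exact ⟨true, Subtype.ext (hno x x.2 hx).symm⟩
    rw [Nat.card_eq_fintype_card (α := Bool), Fintype.card_bool, conj_card_zc hH a e] at h1
    omega
  have hAA : A = A1 := by
    have h1 := nfix_mul hH (isTwo_of_mul_self hi2) hca.symm hia hic hia hia hz hz1 hz' hz1'
    rw [hi, mul_assoc, hz.2.1, mul_one, mul_assoc] at h1
    rw [hA, hA1, hi, h1]
    exact nfix_mul hH (isTwo_of_mul_self hy2) hab ha hb ha ha ((zc hH a).mul_mem hz hz')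
      (fun e1 => hzz' (by
        rw [← inv_eq_of_mul_eq_one_right e1, inv_eq_of_mul_eq_one_right hz.2.1])) hz hz1
  obtain ⟨N, hN⟩ := exists_pow_others hH hT hf
  obtain ⟨l, hl⟩ := IsPGroup.iff_card.mp ((pt_two_group hH e).to_le (zc_le hH e))
  rw [← hq] at hl
  have hl2 : 2 ≤ l := by
    by_contra h
    have : 2 ^ l ≤ 2 ^ 1 := Nat.pow_le_pow_right two_pos (by omega)
    omega
  obtain ⟨B, hB⟩ : ∃ B, A = B + 1 := ⟨A - 1, by omega⟩
  have hn : Nat.card {c : Ω // c ≠ e} = B * (1 + A * (q - 1)) := by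
    have h1 := card_omega hH
    rw [hcount, ← hAA, show A - 1 = B by omega] at h1
    nlinarith [h1, hB]
  have hAq : A = q + 1 := arith hl hl2 hA2 (by rw [show A - 1 = B by omega, ← hn, hN])
  refine ⟨hAq, ?_⟩
  rw [hn, hAq, show B = q by omega]
  obtain ⟨p, hp⟩ : ∃ p, q = p + 1 := ⟨q - 1, by omega⟩
  rw [hp, Nat.add_sub_cancel]
  ring

/-- The central involutions at `e` are regular on the other points of a line. -/
theorem exists_zc_line {y : G} (hy2 : y * y = 1) (hy1 : y ≠ 1) (hy : y ∈ p0 hH f) {c : Ω} (hc : y • c = c)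
    (hce : c ≠ e) : c ∈ line hH e f ∧ ∃ z ∈ zc hH e, z • f = c := by
  classical
  haveI := finite_points hH
  have hye : y • e = e := pt_smul hH (Subgroup.mem_inf.mp hy).1
  have hyf : y • f = f := pt_smul hH (Subgroup.mem_inf.mp hy).2
  obtain ⟨hcard, -⟩ := nfix_eq hH hT hf hy2 hy1 hf.symm hye hyf
  let φ : Option (zc hH e) → {c : Ω // y • c = c} := fun o => o.elim ⟨e, hye⟩ fun z =>
    ⟨(z : G) • f, by
      rw [← mul_smul, ← z.2.2.2 y (Subgroup.mem_inf.mp hy).1, mul_smul, hyf]⟩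
  have hφ : Function.Injective φ := by
    have hne : ∀ z : zc hH e, (z : G) • f ≠ e := fun z h =>
      hf (MulAction.injective (z : G) (h.trans (zc_smul hH z.2).symm))
    rintro (_ | z) (_ | z') h <;> have h' := congrArg Subtype.val h
    · rfl
    · exact absurd h'.symm (hne z')
    · exact absurd h' (hne z)
    · change (z : G) • f = (z' : G) • f at h'
      refine congrArg some (Subtype.ext ?_)
      by_contra hne'
      refine zc_moves hH ((zc hH e).mul_mem ((zc hH e).inv_mem z'.2) z.2)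
        (fun e1 => hne' (inv_mul_eq_one.mp e1).symm) hf ?_
      rw [mul_smul, h', inv_smul_smul]
  obtain ⟨o, ho⟩ := (hφ.bijective_of_nat_card_le (by rw [Finite.card_option]; exact hcard.le)).2 ⟨c, hc⟩
  have ho' := congrArg Subtype.val ho
  cases o with
  | none => exact absurd ho'.symm hce
  | some z =>
    change (z : G) • f = c at ho'
    refine ⟨?_, z, z.2, ho'⟩
    rw [← ho']
    exact smul_line hH (fun x hx => (z.2.2.2 x (Subgroup.mem_inf.mp hx).1).symm) (mem_line_right hH e f)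

/-- The fixed points of an involution in `P₀` are the line. -/
theorem mem_line_of_fix {y : G} (hy2 : y * y = 1) (hy1 : y ≠ 1) (hy : y ∈ p0 hH f) {c : Ω} (hc : y • c = c) :
    c ∈ line hH e f := by
  by_cases hce : c = e
  · rw [hce]; exact mem_line_left hH e f
  · exact (exists_zc_line hH hT hf hy2 hy1 hy hc hce).1

/-- The centraliser in `P` of an involution of `P₀`. -/
theorem cent_P {y : G} (hy2 : y * y = 1) (hy1 : y ≠ 1) (hy : y ∈ p0 hH f) {x : G} (hx : x ∈ P)
    (hxy : x * y = y * x) : ∃ z ∈ zc hH e, z⁻¹ * x ∈ p0 hH f := by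
  have hyf : y • f = f := pt_smul hH (Subgroup.mem_inf.mp hy).2
  have hne : x • f ≠ e := fun h => hf (MulAction.injective x (h.trans (mem_stabilizer_iff.mp (hH.le hx)).symm))
  obtain ⟨-, z, hz, hzf⟩ := exists_zc_line hH hT hf hy2 hy1 hy
    (show y • x • f = x • f by rw [← mul_smul, ← hxy, mul_smul, hyf]) hne
  have hmem : z⁻¹ * x ∈ pt hH e := (pt hH e).mul_mem ((pt hH e).inv_mem hz.1) (by rw [pt_self hH]; exact hx)
  exact ⟨z, hz, Subgroup.mem_inf.mpr ⟨hmem,
    (mem_pt hH).mpr ⟨by rw [mul_smul, ← hzf, inv_smul_smul], ((mem_pt hH).mp hmem).2⟩⟩⟩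

end CfsgLib.BNRankOne
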