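import Cfsg.Agent.Lib.BNRankOne.Final
import Cfsg.Agent.Lib.NilpotentCommute
import Cfsg.Agent.S0322
import Cfsg.Agent.S1136
import Cfsg.Prelude.Def_LieExceptional

/-!
A strongly split pair of rank one with odd index and odd torus gives the set-up, and hence the target groups.
-/

set_option autoImplicit false
set_option linter.unusedSectionVars false
set_option linter.style.haveILetI false

namespace CfsgLib.BNRankOne

open MulAction

universe u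

variable {G : Type u} [Group G]

theorem smul_base_iff {B : Subgroup G} {g : G} :
    g • ((1 : G) : G ⧸ B) = ((1 : G) : G ⧸ B) ↔ g ∈ B := by
  show ((g * 1 : G) : G ⧸ B) = _ ↔ _
  rw [mul_one, QuotientGroup.eq, mul_one]
  exact inv_mem_iff

/-- The 2-part and the odd part of an element. -/
theorem exists_parts [Finite G] (u : G) : ∃ x o : G, x ∈ Subgroup.zpowers u ∧ o ∈ Subgroup.zpowers u ∧
    x * o = u ∧ IsTwo x ∧ Odd (orderOf o) := by
  obtain ⟨a, m, hm, hn⟩ := Nat.exists_eq_two_pow_mul_odd (n := orderOf u) (orderOf_pos _).ne'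
  have hcop : Nat.Coprime m (2 ^ a) := ((Nat.coprime_two_left.mpr hm).pow_left a).symm
  have hbez : (m : ℤ) * Nat.gcdA m (2 ^ a) + ((2 ^ a : ℕ) : ℤ) * Nat.gcdB m (2 ^ a) = 1 := by
    rw [← Nat.gcd_eq_gcd_ab, hcop, Nat.cast_one]
  refine ⟨u ^ ((m : ℤ) * Nat.gcdA m (2 ^ a)), u ^ (((2 ^ a : ℕ) : ℤ) * Nat.gcdB m (2 ^ a)),
    Subgroup.zpow_mem_zpowers _ _, Subgroup.zpow_mem_zpowers _ _, by rw [← zpow_add, hbez, zpow_one], ⟨a, ?_⟩, ?_⟩
  · rw [← zpow_natCast, ← zpow_mul, show (m : ℤ) * Nat.gcdA m (2 ^ a) * ((2 ^ a : ℕ) : ℤ) =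
      ((2 ^ a * m : ℕ) : ℤ) * Nat.gcdA m (2 ^ a) by push_cast; ring, zpow_mul, zpow_natCast, ← hn,
      pow_orderOf_eq_one, one_zpow]
  · refine hm.of_dvd_nat (orderOf_dvd_of_pow_eq_one ?_)
    rw [← zpow_natCast, ← zpow_mul, show ((2 ^ a : ℕ) : ℤ) * Nat.gcdB m (2 ^ a) * (m : ℤ) =
      ((2 ^ a * m : ℕ) : ℤ) * Nat.gcdB m (2 ^ a) by push_cast; ring, zpow_mul, zpow_natCast, ← hn,
      pow_orderOf_eq_one, one_zpow]

theorem not_mem_B (P : Cfsg.BNPair G) {s : G} (hs : s ∈ P.S) : s ∉ P.B := fun h => by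
  refine P.conj_ne s hs (Set.ext fun b => ⟨?_, fun hb => ⟨s⁻¹ * b * s⁻¹,
    mul_mem (mul_mem (inv_mem h) hb) (inv_mem h), ?_⟩⟩)
  · rintro ⟨c, hc, rfl⟩
    exact mul_mem (mul_mem h hc) h
  · show s * (s⁻¹ * b * s⁻¹) * s = b
    group

variable [Finite G] [IsSimpleGroup G]

theorem exists_hyp (P : Cfsg.BNPair G) (hrank : P.rank = 1) (U : Subgroup G) (hUB : U ≤ P.B)
    (hUn : (U.subgroupOf P.B).Normal) (hUnil : Group.IsNilpotent U) (hsplit : U ⊔ (P.B ⊓ P.N) = P.B)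
    (hind : Odd P.B.index) (hH : Odd (Nat.card ↥(P.B ⊓ P.N))) :
    FaithfulSMul G (G ⧸ P.B) ∧ ∃ Q : Subgroup G, Hyp G (G ⧸ P.B) ((1 : G) : G ⧸ P.B) Q := by
  classical
  haveI := Fact.mk Nat.prime_two
  haveI := hUn
  haveI := hUnil
  haveI h2 : IsMultiplyPretransitive G (G ⧸ P.B) 2 := Cfsg.Agent.S0322.result P hrank
  obtain ⟨-, ⟨⟨s, hs⟩⟩⟩ := Nat.card_eq_one_iff_unique.1 (show Nat.card P.S = 1 from hrank)
  have hsB := not_mem_B P hs
  set e : G ⧸ P.B := ((1 : G) : G ⧸ P.B) with he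
  set f : G ⧸ P.B := s • e with hfdef
  have hfe : f ≠ e := fun h => hsB (smul_base_iff.mp h)
  have hfaith : FaithfulSMul G (G ⧸ P.B) := ⟨fun {g g'} hgg => by
    rcases (MulAction.toPermHom G (G ⧸ P.B)).normal_ker.eq_bot_or_eq_top with h | h
    · exact (MonoidHom.ker_eq_bot_iff _).mp h (Equiv.ext hgg)
    · refine absurd ?_ hfe
      have h1 : MulAction.toPermHom G (G ⧸ P.B) s = 1 := MonoidHom.mem_ker.mp (h ▸ Subgroup.mem_top s)
      exact Equiv.ext_iff.mp h1 e⟩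
  -- the torus fixes `f`
  have htf : ∀ t ∈ P.B ⊓ P.N, t • f = f := fun t ht => by
    have h1 : s⁻¹ * t * s ∈ P.B := by
      simpa using P.conj_mem s⁻¹ (inv_mem (P.subset hs)) t ht
    rw [hfdef, show t • s • e = s • (s⁻¹ * t * s) • e by rw [← mul_smul, ← mul_smul]; congr 1; group,
      smul_base_iff.mpr h1]
  have hUN : U.subgroupOf P.B ⊔ (P.B ⊓ P.N).subgroupOf P.B = ⊤ := by
    rw [← Subgroup.subgroupOf_sup hUB inf_le_left, hsplit, Subgroup.subgroupOf_self]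
  have hdec : ∀ b ∈ P.B, ∃ u ∈ U, ∃ t ∈ P.B ⊓ P.N, u * t = b := fun b hb => by
    have h1 : (⟨b, hb⟩ : P.B) ∈ U.subgroupOf P.B ⊔ (P.B ⊓ P.N).subgroupOf P.B := by
      rw [hUN]; exact Subgroup.mem_top _
    obtain ⟨u, hu, t, ht, hut⟩ := Subgroup.mem_sup_of_normal_left.mp h1
    exact ⟨u, hu, t, ht, congrArg Subtype.val hut⟩
  have htrans : ∀ b c : G ⧸ P.B, b ≠ e → c ≠ e → ∃ u ∈ U, u • b = c := by
    have hto : ∀ c : G ⧸ P.B, c ≠ e → ∃ u ∈ U, u • f = c := fun c hc => by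
      obtain ⟨g, hge, hgf⟩ := is_two_pretransitive_iff.mp h2 hfe.symm (Ne.symm hc)
      obtain ⟨u, hu, t, ht, rfl⟩ := hdec g (smul_base_iff.mp hge)
      exact ⟨u, hu, by rw [← hgf, mul_smul, htf t ht]⟩
    intro b c hb hc
    obtain ⟨u₁, h₁, rfl⟩ := hto b hb
    obtain ⟨u₂, h₂, rfl⟩ := hto c hc
    exact ⟨u₂ * u₁⁻¹, mul_mem h₂ (inv_mem h₁), by rw [mul_smul, inv_smul_smul]⟩
  -- the Sylow 2-subgroup of `U`
  obtain ⟨S⟩ : Nonempty (Sylow 2 U) := inferInstance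
  haveI hSn : (S : Subgroup U).Normal :=
    Sylow.normal_of_normalizerCondition Group.normalizerCondition_of_isNilpotent S
  haveI : Unique (Sylow 2 U) := Sylow.unique_of_normal S hSn
  have hmemS : ∀ x ∈ U, IsTwo x → x ∈ (S : Subgroup U).map U.subtype := by
    rintro x hx ⟨k, hk⟩
    have hxp : IsPGroup 2 (Subgroup.zpowers (⟨x, hx⟩ : U)) := by
      rintro ⟨w, hw⟩
      obtain ⟨i, rfl⟩ := Subgroup.mem_zpowers_iff.mp hw
      refine ⟨k, Subtype.ext (Subtype.ext ?_)⟩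
      simp only [SubgroupClass.coe_pow, SubgroupClass.coe_zpow, OneMemClass.coe_one]
      rw [← zpow_natCast, ← zpow_mul, mul_comm, zpow_mul, zpow_natCast, hk, one_zpow]
    obtain ⟨T, hT⟩ := hxp.exists_le_sylow
    rw [Subsingleton.elim T S] at hT
    exact ⟨⟨x, hx⟩, hT (Subgroup.mem_zpowers _), rfl⟩
  have hSU : (S : Subgroup U).map U.subtype ≤ U := Subgroup.map_subtype_le _
  have hStwo : ∀ x ∈ (S : Subgroup U).map U.subtype, IsTwo x := by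
    rintro _ ⟨x, hx, rfl⟩
    obtain ⟨k, hk⟩ := S.isPGroup' ⟨x, hx⟩
    exact ⟨k, congrArg Subtype.val (congrArg Subtype.val hk)⟩
  refine ⟨hfaith, (S : Subgroup U).map U.subtype, h2, ⟨f, hfe⟩, fun x hx => ?_, fun h hh x hx => ?_, S.isPGroup'.map _,
    fun x hx htwo => ?_, ?_, fun b c hb hc => ?_⟩
  · exact mem_stabilizer_iff.mpr (smul_base_iff.mpr (hUB (hSU hx)))
  · have hhB := smul_base_iff.mp hh
    have h1 : (⟨h, hhB⟩ : P.B) * ⟨x, hUB (hSU hx)⟩ * ⟨h, hhB⟩⁻¹ ∈ U.subgroupOf P.B :=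
      hUn.conj_mem _ (Subgroup.mem_subgroupOf.mpr (hSU hx)) _
    exact hmemS _ (Subgroup.mem_subgroupOf.mp h1) ((hStwo x hx).conj h)
  · have hxB := smul_base_iff.mp hx
    refine hmemS x ?_ htwo
    set θ := (QuotientGroup.mk' (U.subgroupOf P.B)).comp ((P.B ⊓ P.N).subgroupOf P.B).subtype
    have hθ : Function.Surjective θ := fun c => by
      obtain ⟨⟨b, hb⟩, rfl⟩ := QuotientGroup.mk'_surjective _ c
      obtain ⟨u, hu, t, ht, hut⟩ := hdec b hb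
      refine ⟨⟨⟨t, (Subgroup.mem_inf.mp ht).1⟩, Subgroup.mem_subgroupOf.mpr ht⟩, ?_⟩
      refine QuotientGroup.eq.mpr (Subgroup.mem_subgroupOf.mpr ?_)
      have h1 : (⟨t, (Subgroup.mem_inf.mp ht).1⟩ : P.B)⁻¹ * ⟨u, hUB hu⟩ * ⟨t, (Subgroup.mem_inf.mp ht).1⟩⁻¹⁻¹ ∈
          U.subgroupOf P.B := hUn.conj_mem _ (Subgroup.mem_subgroupOf.mpr hu) _
      have h2 := Subgroup.mem_subgroupOf.mp h1
      simp only [Subgroup.coe_mul, Subgroup.coe_inv, inv_inv] at h2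
      show t⁻¹ * b ∈ U
      rwa [← hut, ← mul_assoc]
    have hodd : Odd (Nat.card (↥P.B ⧸ U.subgroupOf P.B)) := by
      refine hH.of_dvd_nat ?_
      rw [← Nat.card_congr (Subgroup.subgroupOfEquivOfLe (inf_le_left : P.B ⊓ P.N ≤ P.B)).toEquiv]
      exact Subgroup.card_dvd_of_surjective θ hθ
    obtain ⟨k, hk⟩ := htwo
    have h1 : (QuotientGroup.mk' (U.subgroupOf P.B) ⟨x, hxB⟩) ^ 2 ^ k = 1 := by
      rw [← map_pow, show (⟨x, hxB⟩ : P.B) ^ 2 ^ k = 1 from Subtype.ext hk, map_one]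
    have h2 := pow_gcd_eq_one.mpr ⟨h1, pow_card_eq_one'⟩
    rw [((Nat.coprime_two_left.mpr hodd).pow_left k : Nat.Coprime (2 ^ k) _), pow_one] at h2
    exact Subgroup.mem_subgroupOf.mp ((QuotientGroup.eq_one_iff _).mp h2)
  · rw [← Subgroup.index_eq_card]
    exact hind
  · obtain ⟨u, hu, rfl⟩ := htrans b c hb hc
    obtain ⟨x, o, hx, ho, hxo, hx2, hoodd⟩ := exists_parts u
    have hxU : x ∈ U := Subgroup.zpowers_le.mpr hu hx
    have hoU : o ∈ U := Subgroup.zpowers_le.mpr hu ho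
    refine ⟨x, hmemS x hxU hx2, o, smul_base_iff.mpr (hUB hoU), fun y hy => ?_, by rw [← mul_smul, hxo]⟩
    obtain ⟨k, hk⟩ := hStwo y hy
    have h1 : Commute (⟨o, hoU⟩ : U) ⟨y, hSU hy⟩ := CfsgLib.commute_of_nilpotent _ _ (by
      rw [← Subgroup.orderOf_coe, ← Subgroup.orderOf_coe]
      exact ((Nat.coprime_two_left.mpr hoodd).pow_left k).symm.coprime_dvd_right (orderOf_dvd_of_pow_eq_one hk))
    exact congrArg Subtype.val h1.eq

theorem target {Ω : Type u} [MulAction G Ω] [FaithfulSMul G Ω] {e : Ω} {Q : Subgroup G} (hy : Hyp G Ω e Q) :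
    (∃ (F : Type) (_ : Field F) (_ : Fintype F), (∃ n : ℕ, Fintype.card F = 2 ^ n) ∧
        Nonempty (G ≃* Matrix.ProjectiveSpecialLinearGroup (Fin 2) F)) ∨
      Cfsg.IsSuzuki G ∨
      (∃ (F : Type) (_ : Field F) (_ : Fintype F) (n : ℕ), 2 ≤ n ∧ Fintype.card F = (2 ^ n) ^ 2 ∧
        Nonempty (G ≃* Cfsg.PSU 3 F (2 ^ n))) := by
  have hC := closed hy
  obtain ⟨t, hS⟩ := CfsgLib.Bender.TwoClosed.exists_setup
    (fun _ _ _ _ _ _ _ _ _ hS h4 => CfsgLib.SuzukiRankOne.concl hS h4) hC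
  obtain ⟨L, hLn, hLodd, hL⟩ := Cfsg.Agent.S1136.result hS hC.four
  have htop : L = ⊤ := by
    rcases hLn.eq_bot_or_eq_top with h | h
    · rw [h, Subgroup.index_bot] at hLodd
      exact absurd (even_card hy) (Nat.not_even_iff_odd.mpr hLodd)
    · exact h
  let ι : L ≃* G := (MulEquiv.subgroupCongr htop).trans Subgroup.topEquiv
  rcases hL with ⟨F, i1, i2, ⟨n, -, hn⟩, ⟨g⟩⟩ | h | ⟨F, i1, i2, n, hn, hc, ⟨g⟩⟩
  · exact Or.inl ⟨F, i1, i2, ⟨n, hn⟩, ⟨ι.symm.trans g⟩⟩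
  · obtain ⟨F, i1, i2, m, hm, hc, ⟨g⟩⟩ := h
    exact Or.inr (Or.inl (CfsgLib.Bender.isSuzuki_of_iso ⟨F, i1, i2, m, hm, hc, ⟨ι.symm.trans g⟩⟩))
  · exact Or.inr (Or.inr ⟨F, i1, i2, n, hn, hc, ⟨ι.symm.trans g⟩⟩)

end CfsgLib.BNRankOne
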