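import Cfsg.Agent.Lib.BNRankOne.Basic

/-!
Central involutions exchanging two points, and the fixed points of an involution fixing two points.
-/

set_option autoImplicit false
set_option linter.unusedSectionVars false
set_option linter.style.haveILetI false

namespace CfsgLib.BNRankOne

open MulAction

universe u v

variable {G : Type u} {Ω : Type v} [Group G] [MulAction G Ω] {e : Ω} {P : Subgroup G}

/-- The non-identity central involutions at a point. -/
abbrev Zs (hH : Hyp G Ω e P) (c : Ω) : Type u := {x : G // x ∈ zc hH c ∧ x ≠ 1}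

/-- All central involutions, with their points. -/
abbrev ZAll (hH : Hyp G Ω e P) : Type (max u v) := Σ c : Ω, Zs hH c

/-- The central involutions mapping `h` to `k`. -/
abbrev Sw (hH : Hyp G Ω e P) (h k : Ω) : Type (max u v) := {x : ZAll hH // (x.2 : G) • h = k}

variable [Finite G] [FaithfulSMul G Ω] (hH : Hyp G Ω e P)

include hH

/-- The middle involution of two central involutions. -/
theorem exists_middle {h k : Ω} (hhk : h ≠ k) {w w2 : G} (hw : w ∈ zc hH h) (hw1 : w ≠ 1)
    (hw2 : w2 ∈ zc hH k) (hw21 : w2 ≠ 1) :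
    ∃ (p : Ω) (x : G), x ∈ zc hH p ∧ x ≠ 1 ∧ x * w * x = w2 ∧ x • h = k ∧
      (∀ y : G, w * y = y * w → w2 * y = y * w2 → x * y = y * x) ∧
      ∀ y : G, y * w * y⁻¹ = w2 → y * w2 * y⁻¹ = w → x * y = y * x := by
  obtain ⟨m, hm⟩ := odd_mul hH hhk hw hw1 hw2 hw21
  set d := w * w2 with hd
  have hdn : d ^ ((2 * m + 1 : ℕ) : ℤ) = 1 := by rw [zpow_natCast, ← hm, pow_orderOf_eq_one]
  have hshift : ∀ i l : ℤ, d ^ (i + l * ((2 * m + 1 : ℕ) : ℤ)) = d ^ i := fun i l => by
    rw [zpow_add, mul_comm l, zpow_mul, hdn, one_zpow, mul_one]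
  have hflip : ∀ i : ℤ, d ^ i * w = w * d ^ (-i) := fun i =>
    CfsgLib.Involutions.zpow_mul_eq hw.2.1 hw2.2.1 i
  set x := w * d ^ ((m : ℤ) + 1) with hx
  set g := d ^ ((m : ℤ) * ((m : ℤ) + 1)) with hg
  have hgw : g * w * g⁻¹ = x := by
    rw [hg, hflip, mul_assoc, ← zpow_neg, ← zpow_add, hx, ← hshift ((m : ℤ) + 1) (-((m : ℤ) + 1))]
    congr 2
    push_cast
    ring
  have hxz : x ∈ zc hH (g • h) := hgw ▸ conj_zc hH hw g
  have hx1 : x ≠ 1 := fun e1 => hw1 (by rw [← hgw] at e1; exact conj_eq_one_iff.mp e1)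
  have hxw : x * w * x = w2 := by
    calc x * w * x = w * (d ^ ((m : ℤ) + 1) * w) * (w * d ^ ((m : ℤ) + 1)) := by rw [hx]; group
      _ = w * d ^ ((m : ℤ) + 1) * (w * w) * d ^ ((m : ℤ) + 1) := by group
      _ = w * d ^ ((m : ℤ) + 1 + ((m : ℤ) + 1)) := by rw [hw.2.1, mul_one, mul_assoc, ← zpow_add]
      _ = w * d := by
        conv_rhs => rw [← zpow_one d, ← hshift 1 1]
        congr 2
        push_cast
        ring
      _ = w2 := by rw [hd, ← mul_assoc, hw.2.1, one_mul]
  refine ⟨g • h, x, hxz, hx1, hxw, smul_point hH hw hw2 hw21 (by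
    rw [inv_eq_of_mul_eq_one_right hxz.2.1, hxw]), fun y h1 h2 => ?_, fun y h1 h2 => ?_⟩
  · have hc : Commute d y := (show Commute w y from h1).mul_left (show Commute w2 y from h2)
    exact ((show Commute w y from h1).mul_left (hc.zpow_left _)).eq
  · have hdy : y * d * y⁻¹ = d⁻¹ := by
      rw [hd, show y * (w * w2) * y⁻¹ = y * w * y⁻¹ * (y * w2 * y⁻¹) by group, h1, h2, mul_inv_rev,
        inv_eq_of_mul_eq_one_right hw.2.1, inv_eq_of_mul_eq_one_right hw2.2.1]
    have hy2 : w2 = w * d := by rw [hd, ← mul_assoc, hw.2.1, one_mul]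
    have h3 : y * x * y⁻¹ = x := by
      calc y * x * y⁻¹ = y * w * y⁻¹ * (y * d ^ ((m : ℤ) + 1) * y⁻¹) := by rw [hx]; group
        _ = w * d * (d⁻¹) ^ ((m : ℤ) + 1) := by rw [h1, ← conj_zpow, hdy, hy2]
        _ = w * d ^ (-(m : ℤ)) := by
          rw [inv_zpow', mul_assoc, ← zpow_one_add]
          congr 2
          ring
        _ = x := by
          rw [hx, ← hshift ((m : ℤ) + 1) (-1)]
          congr 2
          push_cast
          ring
    exact (mul_inv_eq_iff_eq_mul.mp h3).symm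

/-- Every ordered pair is exchanged by the same number of central involutions. -/
theorem card_sw {h k : Ω} (hhk : h ≠ k) : Nat.card (Sw hH h k) + 1 = Nat.card (zc hH e) := by
  classical
  haveI := finite_points hH
  letI := Fintype.ofFinite Ω
  letI : ∀ c : Ω, Fintype (Zs hH c) := fun c => Fintype.ofFinite _
  let A := {p : Ω × Ω // p.1 ≠ p.2}
  have hconst : ∀ p : A, Nat.card (Sw hH p.1.1 p.1.2) = Nat.card (Sw hH h k) := by
    rintro ⟨⟨h', k'⟩, hne⟩
    have key : ∀ {a b a' b' : Ω} (g : G), g • a = a' → g • b = b' →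
        Nat.card (Sw hH a b) ≤ Nat.card (Sw hH a' b') := by
      intro a b a' b' g ha hb
      refine Nat.card_le_card_of_injective (fun x : Sw hH a b =>
        (⟨⟨g • x.1.1, ⟨g * x.1.2.1 * g⁻¹, conj_zc hH x.1.2.2.1 g,
          fun e1 => x.1.2.2.2 (conj_eq_one_iff.mp e1)⟩⟩,
          by
            show (g * x.1.2.1 * g⁻¹) • a' = b'
            rw [mul_smul, mul_smul, inv_smul_eq_iff.mpr ha.symm, x.2, hb]⟩ : Sw hH a' b')) ?_
      rintro ⟨⟨p, x, hx⟩, hxh⟩ ⟨⟨p', x', hx'⟩, hxh'⟩ heq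
      have h1 : g • p = g • p' := congrArg (fun z : Sw hH a' b' => z.1.1) heq
      have h2 : g * x * g⁻¹ = g * x' * g⁻¹ := congrArg (fun z : Sw hH a' b' => (z.1.2 : G)) heq
      obtain rfl := MulAction.injective g h1
      obtain rfl := mul_left_cancel (mul_right_cancel h2)
      rfl
    obtain ⟨g, hg1, hg2⟩ := two_pt hH hhk hne
    obtain ⟨g', hg1', hg2'⟩ := two_pt hH hne hhk
    exact le_antisymm (key g' hg1' hg2') (key g hg1 hg2)
  let ψ : (Σ p : A, Sw hH p.1.1 p.1.2) ≃ Σ x : ZAll hH, {b : Ω // b ≠ x.1} :=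
    { toFun := fun q => ⟨q.2.1, q.1.1.1, fun e1 => q.1.2 (e1.trans ((zc_smul hH q.2.1.2.2.1).symm.trans
        ((congrArg (fun z : Ω => (q.2.1.2 : G) • z) e1.symm).trans q.2.2)))⟩
      invFun := fun q => ⟨⟨(q.2.1, (q.1.2 : G) • q.2.1),
        fun e1 => q.2.2 (fix_only hH q.1.2.2.1 q.1.2.2.2 e1.symm)⟩, q.1, rfl⟩
      left_inv := by
        rintro ⟨⟨⟨a, b⟩, hab⟩, x, hx⟩
        change (x.2 : G) • a = b at hx
        subst hx
        rfl
      right_inv := fun q => rfl }
  have h1 := Nat.card_congr ψ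
  rw [Nat.card_sigma, Nat.card_sigma, Finset.sum_congr rfl (fun p _ => hconst p), Finset.sum_const,
    Finset.card_univ, smul_eq_mul] at h1
  have hA : Fintype.card A = Fintype.card Ω * (Fintype.card Ω - 1) := by
    rw [Fintype.card_congr (Equiv.subtypeProdEquivSigmaSubtype fun a b : Ω => a ≠ b), Fintype.card_sigma]
    simp [Fintype.card_subtype_compl, Finset.card_univ]
  have hZ : ∀ c : Ω, Nat.card (Zs hH c) + 1 = Nat.card (zc hH e) := by
    intro c
    rw [← conj_card_zc hH c e, ← Finite.card_option]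
    exact Nat.card_congr
      { toFun := fun o => o.elim 1 fun x => ⟨x.1, x.2.1⟩
        invFun := fun x => if hx : (x : G) = 1 then none else some ⟨x, x.2, hx⟩
        left_inv := fun o => by
          cases o with
          | none => simp
          | some x => simp [x.2.2]
        right_inv := fun x => by
          dsimp only
          split
          · exact Subtype.ext (by simpa using ‹(x : G) = 1›.symm)
          · rfl }
  obtain ⟨q, hq⟩ : ∃ q, Nat.card (zc hH e) = q + 1 := ⟨Nat.card (zc hH e) - 1, by have := hZ h; omega⟩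
  have hR : (∑ x : ZAll hH, Nat.card {b : Ω // b ≠ x.1}) = Fintype.card Ω * q * (Fintype.card Ω - 1) := by
    rw [Fintype.sum_sigma]
    have : ∀ c : Ω, (∑ _x : Zs hH c, Nat.card {b : Ω // b ≠ c}) = q * (Fintype.card Ω - 1) := fun c => by
      rw [Finset.sum_const, Finset.card_univ, smul_eq_mul, ← Nat.card_eq_fintype_card,
        show Nat.card (Zs hH c) = q by have := hZ c; omega, Nat.card_eq_fintype_card]
      simp [Fintype.card_subtype_compl]
    rw [Finset.sum_congr rfl fun c _ => this c, Finset.sum_const, Finset.card_univ, smul_eq_mul, mul_assoc]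
  rw [hR, hA] at h1
  have hv : 1 < Fintype.card Ω := Fintype.one_lt_card_iff.mpr ⟨h, k, hhk⟩
  have hpos : 0 < Fintype.card Ω * (Fintype.card Ω - 1) := Nat.mul_pos (by omega) (by omega)
  rw [show Fintype.card Ω * q * (Fintype.card Ω - 1) = Fintype.card Ω * (Fintype.card Ω - 1) * q by ring] at h1
  rw [Nat.eq_of_mul_eq_mul_left hpos h1, hq]

/-- A central involution exchanging two points centralises the 2-elements fixing both. -/
theorem swap_comm {h k p : Ω} (hhk : h ≠ k) {x : G} (hx : x ∈ zc hH p) (hx1 : x ≠ 1) (hxh : x • h = k) {y : G}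
    (hy : y ∈ pt hH h ⊓ pt hH k) : x * y = y * x := by
  classical
  haveI := finite_points hH
  obtain ⟨w, hw, hw1⟩ := exists_zc hH h
  choose P' X hX hX1 hXw hXh hXc _hXs using fun w2 : Zs hH k => exists_middle hH hhk hw hw1 w2.2.1 w2.2.2
  let φ : Zs hH k → Sw hH h k := fun w2 => ⟨⟨P' w2, X w2, hX w2, hX1 w2⟩, hXh w2⟩
  have hφ : Function.Injective φ := fun w2 w2' e1 => Subtype.ext (by
    have h1 : X w2 = X w2' := congrArg (fun z : Sw hH h k => (z.1.2 : G)) e1
    rw [← hXw w2, h1, hXw w2'])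
  have hcard : Nat.card (Sw hH h k) ≤ Nat.card (Zs hH k) := by
    have h1 := card_sw hH hhk
    have h2 : Nat.card (zc hH k) ≤ Nat.card (Zs hH k) + 1 := by
      rw [← Finite.card_option]
      refine Nat.card_le_card_of_injective
        (fun z : zc hH k => if hz : (z : G) = 1 then none else some (⟨z, z.2, hz⟩ : Zs hH k)) fun z z' e1 => ?_
      simp only at e1
      split at e1 <;> split at e1
      · exact Subtype.ext (Eq.trans ‹(z : G) = 1› ‹(z' : G) = 1›.symm)
      · simp at e1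
      · simp at e1
      · exact Subtype.ext (congrArg (fun o : Option (Zs hH k) => o.elim (1 : G) fun u => (u : G)) e1)
    rw [conj_card_zc hH k e] at h2
    omega
  obtain ⟨w2, hw2⟩ := (hφ.bijective_of_nat_card_le hcard).2 ⟨⟨p, x, hx, hx1⟩, hxh⟩
  have hxX : X w2 = x := congrArg (fun z : Sw hH h k => (z.1.2 : G)) hw2
  rw [← hxX]
  exact hXc w2 y (hw.2.2 y (Subgroup.mem_inf.mp hy).1) (w2.2.1.2.2 y (Subgroup.mem_inf.mp hy).2)

theorem swap_center_mem {h k p : Ω} (hhk : h ≠ k) {x : G} (hx : x ∈ zc hH p) (hx1 : x ≠ 1) (hxh : x • h = k) :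
    p ∈ line hH h k := fun y hy =>
  fix_only hH hx hx1 (by rw [← mul_smul, swap_comm hH hhk hx hx1 hxh hy, mul_smul, zc_smul hH hx])

/-- For an involution `y` moving `h`, at most one central involution at a fixed point of `y` agrees with `y`
on `h`. -/
theorem swap_unique {y : G} (hy2 : y * y = 1) {h p p' : Ω} (hyh : y • h ≠ h) (hp : y • p = p) (hp' : y • p' = p')
    {x x' : G} (hx : x ∈ zc hH p) (hx1 : x ≠ 1) (hx' : x' ∈ zc hH p') (hx1' : x' ≠ 1) (hxh : x • h = y • h)
    (hxh' : x' • h = y • h) : p = p' ∧ x = x' := by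
  have hpp : p = p' := by
    by_contra hne
    have h1 := inf_eq_of_mem_line hH (Ne.symm hyh) hne (swap_center_mem hH (Ne.symm hyh) hx hx1 hxh)
      (swap_center_mem hH (Ne.symm hyh) hx' hx1' hxh')
    exact hyh (pt_smul hH (Subgroup.mem_inf.mp (h1 ▸ Subgroup.mem_inf.mpr
      ⟨(mem_pt hH).mpr ⟨hp, isTwo_of_mul_self hy2⟩, (mem_pt hH).mpr ⟨hp', isTwo_of_mul_self hy2⟩⟩ :
        y ∈ pt hH h ⊓ pt hH (y • h))).1)
  subst hpp
  refine ⟨rfl, ?_⟩
  have hmem : x'⁻¹ * x ∈ zc hH p := (zc hH p).mul_mem ((zc hH p).inv_mem hx') hx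
  by_contra hne
  have hh : (x'⁻¹ * x) • h = h := by rw [mul_smul, hxh, inv_smul_eq_iff, hxh']
  have hhp : h = p := fix_only hH hmem (fun e1 => hne (inv_mul_eq_one.mp e1).symm) hh
  exact hyh (by rw [hhp, hp])

/-- For an involution `y` fixing two points and moving `h`, such an involution exists. -/
theorem exists_agree {y : G} (hy2 : y * y = 1) {h : Ω} (hyh : y • h ≠ h) :
    ∃ (p : Ω) (x : G), y • p = p ∧ x ∈ zc hH p ∧ x ≠ 1 ∧ x • h = y • h ∧ x * y = y * x := by
  obtain ⟨w, hw, hw1⟩ := exists_zc hH h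
  have hw2 := conj_zc hH hw y
  have hw21 : y * w * y⁻¹ ≠ 1 := fun e1 => hw1 (conj_eq_one_iff.mp e1)
  obtain ⟨p, x, hx, hx1, -, hxh, -, hs⟩ := exists_middle hH (Ne.symm hyh) hw hw1 hw2 hw21
  have hc := hs y rfl (by
    rw [show y * (y * w * y⁻¹) * y⁻¹ = y * y * w * (y * y)⁻¹ by group, hy2, one_mul, inv_one, mul_one])
  exact ⟨p, x, fix_only hH hx hx1 (by rw [← mul_smul, hc, mul_smul, zc_smul hH hx]), hx, hx1, hxh, hc⟩

/-- The number of fixed points. -/
noncomputable def nfix (Ω : Type v) [MulAction G Ω] (y : G) : ℕ := Nat.card {c : Ω // y • c = c}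

omit [Finite G] hH in
theorem nfix_conj (g y : G) : nfix Ω (g * y * g⁻¹) = nfix Ω y :=
  Nat.card_congr
    { toFun := fun c => ⟨g⁻¹ • c.1, by
        have h1 := c.2
        rw [mul_smul, mul_smul] at h1
        exact eq_inv_smul_iff.mpr h1⟩
      invFun := fun c => ⟨g • c.1, by rw [mul_smul, mul_smul, inv_smul_smul, c.2]⟩
      left_inv := fun c => Subtype.ext (smul_inv_smul g c.1)
      right_inv := fun c => Subtype.ext (inv_smul_smul g c.1) }

/-- The product with a central involution at a fixed point does not depend on the choices. -/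
theorem nfix_mul {y : G} (hy : IsTwo y) {a b : Ω} (hab : a ≠ b) (ha : y • a = a) (hb : y • b = b)
    {p p' : Ω} (hp : y • p = p) (hp' : y • p' = p') {x x' : G} (hx : x ∈ zc hH p) (hx1 : x ≠ 1)
    (hx' : x' ∈ zc hH p') (hx1' : x' ≠ 1) : nfix Ω (y * x) = nfix Ω (y * x') := by
  have key : ∀ {q q' : Ω}, q ≠ q' → y • q = q → y • q' = q' → ∀ {z z' : G}, z ∈ zc hH q → z ≠ 1 →
      z' ∈ zc hH q' → z' ≠ 1 → nfix Ω (y * z) = nfix Ω (y * z') := by
    intro q q' hne hq hq' z z' hz hz1 hz' hz1'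
    obtain ⟨g, hg, -, hgc⟩ := exists_carrier hH hne hz hz1 hz' hz1'
    have h1 := hgc y (zc_comm hH hz hq hy) (zc_comm hH hz' hq' hy)
    rw [← hg, show y * (g * z * g⁻¹) = g * (y * z) * g⁻¹ by rw [← mul_assoc g y, h1]; group, nfix_conj]
  by_cases hpp : p = p'
  · subst hpp
    obtain ⟨c, hc, hcp⟩ : ∃ c, y • c = c ∧ c ≠ p := by
      by_cases h : a = p
      · exact ⟨b, hb, fun e1 => hab (h.trans e1.symm)⟩
      · exact ⟨a, ha, h⟩
    obtain ⟨w, hw, hw1⟩ := exists_zc hH c
    rw [key hcp.symm hp hc hx hx1 hw hw1, key hcp hc hp hw hw1 hx' hx1']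
  · exact key hpp hp hp' hx hx1 hx' hx1'

/-- The points moved by an involution `y` fixing two points. -/
theorem card_moved {y : G} (hy2 : y * y = 1) {a b : Ω} (hab : a ≠ b) (ha : y • a = a) (hb : y • b = b)
    {z : G} (hz : z ∈ zc hH a) (hz1 : z ≠ 1) :
    Nat.card Ω = nfix Ω y + nfix Ω y * ((Nat.card (zc hH e) - 1) * (nfix Ω (y * z) - 1)) := by
  classical
  haveI := finite_points hH
  letI := Fintype.ofFinite Ω
  letI : ∀ c : Ω, Fintype (Zs hH c) := fun c => Fintype.ofFinite _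
  let T := Σ p : {c : Ω // y • c = c}, Σ x : Zs hH p.1, {h : Ω // (y * (x : G)) • h = h ∧ h ≠ p.1}
  have hmoved : ∀ q : T, y • q.2.2.1 ≠ q.2.2.1 := by
    intro q h
    have h1 := q.2.2.2.1
    rw [mul_smul] at h1
    have h2 : (q.2.1 : G) • q.2.2.1 = q.2.2.1 := MulAction.injective y (h1.trans h.symm)
    exact q.2.2.2.2 (fix_only hH q.2.1.2.1 q.2.1.2.2 h2)
  have hagree : ∀ q : T, (q.2.1 : G) • q.2.2.1 = y • q.2.2.1 := fun q => by
    have h1 := q.2.2.2.1
    rw [mul_smul] at h1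
    calc (q.2.1 : G) • q.2.2.1 = y • y • (q.2.1 : G) • q.2.2.1 := by rw [smul_smul y y, hy2, one_smul]
      _ = y • q.2.2.1 := by rw [h1]
  let f : {c : Ω // y • c = c} ⊕ T → Ω := Sum.elim (fun c => c.1) fun q => q.2.2.1
  have hf : Function.Bijective f := by
    constructor
    · rintro (c | ⟨⟨p, hp⟩, ⟨x, hx, hx1⟩, h, hh⟩) (c' | ⟨⟨p', hp'⟩, ⟨x', hx', hx1'⟩, h', hh'⟩) e1
      · exact congrArg Sum.inl (Subtype.ext e1)
      · change c.1 = h' at e1
        subst e1
        exact absurd c.2 (hmoved ⟨⟨p', hp'⟩, ⟨x', hx', hx1'⟩, c.1, hh'⟩)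
      · change h = c'.1 at e1
        subst e1
        exact absurd c'.2 (hmoved ⟨⟨p, hp⟩, ⟨x, hx, hx1⟩, c'.1, hh⟩)
      · change h = h' at e1
        subst e1
        obtain ⟨e2, e3⟩ := swap_unique hH hy2 (hmoved ⟨⟨p, hp⟩, ⟨x, hx, hx1⟩, h, hh⟩) hp hp' hx hx1 hx' hx1'
          (hagree ⟨⟨p, hp⟩, ⟨x, hx, hx1⟩, h, hh⟩) (hagree ⟨⟨p', hp'⟩, ⟨x', hx', hx1'⟩, h, hh'⟩)
        subst e2 e3
        rfl
    · intro h
      by_cases hy : y • h = h
      · exact ⟨Sum.inl ⟨h, hy⟩, rfl⟩
      obtain ⟨p, x, hp, hx, hx1, hxh, hc⟩ := exists_agree hH hy2 hy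
      refine ⟨Sum.inr ⟨⟨p, hp⟩, ⟨x, hx, hx1⟩, h, ?_, fun e1 => hy (by rw [e1, hp])⟩, rfl⟩
      rw [mul_smul, hxh, smul_smul, hy2, one_smul]
  have hfib : ∀ (p : {c : Ω // y • c = c}) (x : Zs hH p.1),
      Nat.card {h : Ω // (y * (x : G)) • h = h ∧ h ≠ p.1} = nfix Ω (y * z) - 1 := by
    intro p x
    have hpf : (y * (x : G)) • p.1 = p.1 := by rw [mul_smul, zc_smul hH x.2.1, p.2]
    have h1 : Nat.card {h : Ω // (y * (x : G)) • h = h ∧ h ≠ p.1} + 1 = nfix Ω (y * (x : G)) := by
      rw [← Finite.card_option]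
      exact Nat.card_congr
        { toFun := fun o => o.elim ⟨p.1, hpf⟩ fun h => ⟨h.1, h.2.1⟩
          invFun := fun h => if e1 : h.1 = p.1 then none else some ⟨h.1, h.2, e1⟩
          left_inv := fun o => by
            cases o with
            | none => simp
            | some h => simp [h.2.2]
          right_inv := fun h => by
            dsimp only
            split
            · exact Subtype.ext (Eq.symm ‹h.1 = p.1›)
            · rfl }
    rw [← nfix_mul hH (isTwo_of_mul_self hy2) hab ha hb p.2 ha x.2.1 x.2.2 hz hz1]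
    omega
  have hZ : ∀ c : Ω, Nat.card (Zs hH c) = Nat.card (zc hH e) - 1 := by
    intro c
    rw [← conj_card_zc hH c e]
    have : Nat.card (Zs hH c) + 1 = Nat.card (zc hH c) := by
      rw [← Finite.card_option]
      exact Nat.card_congr
        { toFun := fun o => o.elim 1 fun x => ⟨x.1, x.2.1⟩
          invFun := fun x => if hx : (x : G) = 1 then none else some ⟨x, x.2, hx⟩
          left_inv := fun o => by
            cases o with
            | none => simp
            | some x => simp [x.2.2]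
          right_inv := fun x => by
            dsimp only
            split
            · exact Subtype.ext (by simpa using ‹(x : G) = 1›.symm)
            · rfl }
    omega
  rw [← Nat.card_eq_of_bijective f hf, Nat.card_sum, Nat.card_sigma,
    Finset.sum_congr rfl (fun p _ => by
      rw [Nat.card_sigma, Finset.sum_congr rfl (fun x _ => hfib p x), Finset.sum_const, Finset.card_univ,
        ← Nat.card_eq_fintype_card, hZ, smul_eq_mul]),
    Finset.sum_const, Finset.card_univ, ← Nat.card_eq_fintype_card, smul_eq_mul]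
  rfl

end CfsgLib.BNRankOne
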