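import Cfsg.Agent.Lib.BNRankOne.Elem

/-!
An element of odd order centralising `P₀`, fixing two points, and regular on the central involutions at the
first one.
-/

set_option autoImplicit false
set_option linter.unusedSectionVars false
set_option linter.style.haveILetI false

namespace CfsgLib.BNRankOne

open MulAction CfsgLib.RankOne

universe u v

variable {G : Type u} {Ω : Type v} [Group G] [MulAction G Ω] {e : Ω} {P : Subgroup G}
  [Finite G] [FaithfulSMul G Ω]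

/-- A torus element for the line through `e` and `f`. -/
structure Torus (hH : Hyp G Ω e P) (f : Ω) (τ : G) : Prop where
  fix_e : τ • e = e
  fix_f : τ • f = f
  comm : ∀ x ∈ p0 hH f, τ * x = x * τ
  odd : Odd (orderOf τ)
  trans : ∀ z ∈ zc hH e, z ≠ 1 → ∀ z' ∈ zc hH e, z' ≠ 1 → ∃ k : ℕ, τ ^ k * z * (τ ^ k)⁻¹ = z'
  free : ∀ k : ℕ, ∀ z ∈ zc hH e, z ≠ 1 → τ ^ k * z = z * τ ^ k → ∀ z' ∈ zc hH e, τ ^ k * z' = z' * τ ^ k

variable [IsSimpleGroup G] (hH : Hyp G Ω e P) {f : Ω} (hf : f ≠ e) (hP0 : p0 hH f ≠ ⊥)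

include hH hf hP0

/-- The image of `P` on the line is the image of the central involutions at `e`. -/
theorem lbarP_eq {x : LBar hH f} (hx : x ∈ lbarP hH f) :
    ∃ z : cen0 hH f, (z : G) ∈ zc hH e ∧ toLBar hH f z = x := by
  obtain ⟨w, hw, rfl⟩ := hx
  obtain ⟨u, hu, hu2, hu1⟩ := exists_invol hH hP0
  obtain ⟨z, hz, hzw⟩ := cent_p0 hH hf hP0 hu hu1 (Subgroup.mem_subgroupOf.mp hw)
    (cen0_comm hH w.2 u hu).symm
  refine ⟨⟨z, zc_mem_cen0 hH (mem_line_left hH e f) hz⟩, hz, ?_⟩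
  refine QuotientGroup.eq.mpr (MonoidHom.mem_ker.mpr (Equiv.ext fun b => Subtype.ext ?_))
  exact b.2 _ hzw

theorem exists_torus : ∃ τ : G, Torus hH f τ := by
  classical
  haveI := finite_points hH
  have hC := lbar_closed hH hf
  obtain ⟨t, hS⟩ := CfsgLib.Bender.TwoClosed.exists_setup
    (fun _ _ _ _ _ _ _ _ _ hS h4 => CfsgLib.SuzukiRankOne.concl hS h4) hC
  obtain ⟨C, hCset, hcyc, -⟩ := Cfsg.Agent.S1131.result hS hC.four
  obtain ⟨-, htransC⟩ := Cfsg.Agent.S1122.result hS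
  obtain ⟨k₀, hk₀⟩ := hcyc.exists_generator
  have hCI : ∀ {g : LBar hH f}, g ∈ C → g ∈ Cfsg.invertedBy (D (ln0 hH f) t) t := fun {g} hg => by
    rwa [← SetLike.mem_coe, hCset] at hg
  obtain ⟨hk₀a, hk₀b⟩ := (mem_D hS).mp (hCI k₀.2).1
  let fL : Ln hH f := ⟨f, mem_line_right hH e f⟩
  obtain ⟨y, hy, hyf⟩ := exists_Q_ta hS (c := fL) (fun e1 => hf (congrArg Subtype.val e1))
  have hya : y • ln0 hH f = ln0 hH f := mem_Q_a hS hy
  -- the images of the central involutions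
  let hat : zc hH e → LBar hH f := fun z =>
    toLBar hH f ⟨z, zc_mem_cen0 hH (mem_line_left hH e f) z.2⟩
  have hhatP : ∀ z, hat z ∈ lbarP hH f := fun z =>
    ⟨⟨z, zc_mem_cen0 hH (mem_line_left hH e f) z.2⟩, Subgroup.mem_subgroupOf.mpr ((pt_self hH).le z.2.1), rfl⟩
  have hinj : Function.Injective hat := fun z z' h => by
    refine Subtype.ext (inv_mul_eq_one.mp ?_).symm
    refine toLBar_inj_zc hH hf (x := ⟨(z' : G)⁻¹ * z, Subgroup.mul_mem _ (Subgroup.inv_mem _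
      (zc_mem_cen0 hH (mem_line_left hH e f) z'.2)) (zc_mem_cen0 hH (mem_line_left hH e f) z.2)⟩)
      (mul_mem (inv_mem z'.2) z.2) ?_
    have h1 : (hat z')⁻¹ * hat z = 1 := by rw [h, inv_mul_cancel]
    exact h1
  have hPcomm : ∀ p q : LBar hH f, p ∈ lbarP hH f → q ∈ lbarP hH f → p * q = q * p := by
    intro p q hp hq
    obtain ⟨z, hz, rfl⟩ := lbarP_eq hH hf hP0 hp
    obtain ⟨z', hz', rfl⟩ := lbarP_eq hH hf hP0 hq
    rw [← map_mul, ← map_mul]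
    exact congrArg _ (Subtype.ext (hz.2.2 _ hz'.1))
  have hconjP : ∀ g : LBar hH f, g • ln0 hH f = ln0 hH f → ∀ p ∈ lbarP hH f, g * p * g⁻¹ ∈ lbarP hH f :=
    fun g hg p hp => hC.conj g hg p hp
  set c₁ := y * (k₀ : LBar hH f) * y⁻¹ with hc₁
  have hc₁a : c₁ • ln0 hH f = ln0 hH f := by
    rw [hc₁, mul_smul, mul_smul, inv_smul_eq_iff.mpr hya.symm, hk₀a, hya]
  have hc₁f : c₁ • fL = fL := by
    rw [← hyf, hc₁, mul_smul, mul_smul, inv_smul_smul, hk₀b]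
  have hc₁odd : Odd (orderOf c₁) := by
    rw [hc₁, CfsgLib.Involutions.orderOf_conj]
    exact hS.odd_card.of_dvd_nat (Subgroup.orderOf_dvd_natCard _ (hCI k₀.2).1)
  -- the action of the powers
  have hconjpow : ∀ (i : ℕ) (p : LBar hH f), p ∈ lbarP hH f →
      c₁ ^ i * p * (c₁ ^ i)⁻¹ = (k₀ : LBar hH f) ^ i * p * ((k₀ : LBar hH f) ^ i)⁻¹ := by
    intro i p hp
    have h1 : (k₀ : LBar hH f) ^ i * p * ((k₀ : LBar hH f) ^ i)⁻¹ ∈ lbarP hH f := by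
      refine hconjP _ ?_ p hp
      exact mem_stabilizer_iff.mp (pow_mem (mem_stabilizer_iff.mpr hk₀a) i)
    have hyP : y ∈ lbarP hH f := hy
    rw [hc₁, conj_pow]
    calc y * (k₀ : LBar hH f) ^ i * y⁻¹ * p * (y * (k₀ : LBar hH f) ^ i * y⁻¹)⁻¹
        = y * ((k₀ : LBar hH f) ^ i * (y⁻¹ * p * y) * ((k₀ : LBar hH f) ^ i)⁻¹) * y⁻¹ := by group
      _ = _ := by
        rw [show y⁻¹ * p * y = p by rw [mul_assoc, hPcomm p y hp hyP, inv_mul_cancel_left],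
          hPcomm y _ hyP h1, mul_inv_cancel_right]
  -- the lift
  obtain ⟨g, hg⟩ := QuotientGroup.mk'_surjective _ c₁
  obtain ⟨a, b, hb, hab⟩ := Nat.exists_eq_two_pow_mul_odd (n := orderOf (g : G)) (orderOf_pos _).ne'
  set τ : G := (g : G) ^ (2 ^ a) with hτ
  have hτimg : toLBar hH f (g ^ (2 ^ a)) = c₁ ^ (2 ^ a) := by
    rw [map_pow]
    exact congrArg (· ^ (2 ^ a)) hg
  obtain ⟨m, hm⟩ := exists_pow_eq_self_of_coprime (x := c₁) (n := 2 ^ a)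
    ((Nat.coprime_two_left.mpr hc₁odd).pow_left a)
  have hτpow : ∀ k : ℕ, toLBar hH f ((g ^ (2 ^ a)) ^ k) = c₁ ^ (2 ^ a * k) := fun k => by
    rw [map_pow, hτimg, pow_mul]
  have hτcoe : ∀ k : ℕ, (((g ^ (2 ^ a)) ^ k : cen0 hH f) : G) = τ ^ k := fun k => by
    rw [SubgroupClass.coe_pow, SubgroupClass.coe_pow]
  -- conjugation downstairs
  have hdown : ∀ (k : ℕ) (z : zc hH e) (hm' : τ ^ k * z * (τ ^ k)⁻¹ ∈ zc hH e),
      hat ⟨_, hm'⟩ = c₁ ^ (2 ^ a * k) * hat z * (c₁ ^ (2 ^ a * k))⁻¹ := by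
    intro k z hm'
    rw [← hτpow k]
    show toLBar hH f _ = toLBar hH f _ * toLBar hH f _ * (toLBar hH f _)⁻¹
    rw [← map_mul, ← map_inv, ← map_mul]
    refine congrArg _ (Subtype.ext ?_)
    simp only [Subgroup.coe_mul, Subgroup.coe_inv, hτcoe]
  have hτe : τ • e = e := by
    have h1 : toLBar hH f (g ^ (2 ^ a)) • ln0 hH f = ln0 hH f := by
      rw [hτimg]
      exact mem_stabilizer_iff.mp (pow_mem (mem_stabilizer_iff.mpr hc₁a) _)
    have h2 := congrArg Subtype.val h1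
    rw [hτ, ← SubgroupClass.coe_pow]
    exact h2
  have hτke : ∀ k : ℕ, τ ^ k • e = e := fun k =>
    mem_stabilizer_iff.mp (pow_mem (mem_stabilizer_iff.mpr hτe) k)
  have hτf : τ • f = f := by
    have h1 : toLBar hH f (g ^ (2 ^ a)) • fL = fL := by
      rw [hτimg]
      exact mem_stabilizer_iff.mp (pow_mem (mem_stabilizer_iff.mpr hc₁f) _)
    have h2 := congrArg Subtype.val h1
    rw [hτ, ← SubgroupClass.coe_pow]
    exact h2
  have hzconj : ∀ (k : ℕ) (z : zc hH e), τ ^ k * z * (τ ^ k)⁻¹ ∈ zc hH e := fun k z => by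
    have h1 := conj_zc hH z.2 (τ ^ k)
    rwa [hτke] at h1
  have hhat_invol : ∀ z : zc hH e, (z : G) ≠ 1 →
      hat z ∈ Cfsg.involutionsIn (stabilizer (LBar hH f) (ln0 hH f) : Set (LBar hH f)) := fun z hz =>
    ⟨hS.le (hhatP z), fun e1 => hz (toLBar_inj_zc hH hf
      (x := ⟨z, zc_mem_cen0 hH (mem_line_left hH e f) z.2⟩) z.2 e1), by
        show toLBar hH f _ * toLBar hH f _ = 1
        rw [← map_mul, ← map_one (toLBar hH f)]
        exact congrArg _ (Subtype.ext z.2.2.1)⟩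
  refine ⟨τ, hτe, hτf, fun x hx => ?_, ?_, fun z hz hz1 z' hz' hz1' => ?_, fun k z hz hz1 hc z' hz' => ?_⟩
  · have h1 := cen0_comm hH (g ^ (2 ^ a)).2 x hx
    simpa [hτ] using h1.symm
  · rw [hτ, orderOf_pow, hab, Nat.gcd_eq_right (Dvd.intro b rfl), Nat.mul_div_cancel_left _ (Nat.two_pow_pos a)]
    exact hb
  · obtain ⟨k, hk, e1⟩ := htransC _ (hhat_invol ⟨z, hz⟩ hz1) _ (hhat_invol ⟨z', hz'⟩ hz1')
    obtain ⟨i, hi⟩ := (IsOfFinOrder.mem_powers_iff_mem_zpowers (isOfFinOrder_of_finite k₀)).mpr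
      (hk₀ ⟨k⁻¹, C.inv_mem (by rw [← SetLike.mem_coe, hCset]; exact hk)⟩)
    have hi' : (k₀ : LBar hH f) ^ i = k⁻¹ := by rw [← SubgroupClass.coe_pow]; exact congrArg Subtype.val hi
    have key : c₁ ^ i * hat ⟨z, hz⟩ * (c₁ ^ i)⁻¹ = hat ⟨z', hz'⟩ := by
      rw [hconjpow i _ (hhatP _), hi', inv_inv]
      exact e1
    refine ⟨m * i, congrArg Subtype.val (hinj (a₁ := ⟨_, hzconj (m * i) ⟨z, hz⟩⟩) (a₂ := ⟨z', hz'⟩) ?_)⟩
    rw [hdown (m * i) ⟨z, hz⟩ (hzconj _ _), ← key, pow_mul c₁ (2 ^ a), pow_mul (c₁ ^ 2 ^ a) m, hm]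
  · have h1 : c₁ ^ (2 ^ a * k) * hat ⟨z, hz⟩ * (c₁ ^ (2 ^ a * k))⁻¹ = hat ⟨z, hz⟩ := by
      rw [← hdown k ⟨z, hz⟩ (hzconj k ⟨z, hz⟩)]
      exact congrArg hat (Subtype.ext (mul_inv_eq_iff_eq_mul.mpr hc))
    rw [hconjpow _ _ (hhatP _)] at h1
    have hmem : (k₀ : LBar hH f) ^ (2 ^ a * k) ∈ Cfsg.invertedBy (D (ln0 hH f) t) t :=
      hCI (pow_mem k₀.2 _)
    have hk1 : (k₀ : LBar hH f) ^ (2 ^ a * k) = 1 := by
      by_contra hne
      exact (hhat_invol ⟨z, hz⟩ hz1).2.1 (inverted_cent_Q hS hmem hne (hhatP _) (mul_inv_eq_iff_eq_mul.mp h1))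
    have h2 : hat ⟨_, hzconj k ⟨z', hz'⟩⟩ = hat ⟨z', hz'⟩ := by
      rw [hdown k ⟨z', hz'⟩ (hzconj k _), hconjpow _ _ (hhatP _), hk1, one_mul, inv_one, mul_one]
    exact mul_inv_eq_iff_eq_mul.mp (congrArg Subtype.val (hinj h2))

end CfsgLib.BNRankOne
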